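import Groth.Agent.Lib.AlgSpMor.QC
import Groth.Agent.Lib.AlgSpMor.Proper
import Groth.Agent.Lib.AlgSpace.Points
import Groth.Agent.S10286
import Mathlib.AlgebraicGeometry.ValuativeCriterion
import Mathlib.RingTheory.Spectrum.Prime.Topology

/-!
# The existence part of the valuative criterion gives closed maps
-/

set_option autoImplicit false
set_option linter.style.haveILetI false

universe u

open CategoryTheory CategoryTheory.Limits AlgebraicGeometry IsLocalRing
open AlgSp Groth.Agent.Lib.AlgSpace Groth.Agent.Lib.AlgSpMor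

namespace Groth.Agent.Lib.AlgSpVal

/-- Images of closed sets under morphisms of affine schemes are closed once they are stable under
specialization. -/
theorem isClosed_image_of_stable {U V : Scheme.{u}} [IsAffine U] [IsAffine V] (m : U ⟶ V)
    {Z : Set U} (hZ : IsClosed Z) (h : StableUnderSpecialization (m '' Z)) :
    IsClosed (m '' Z) := by
  let eU := Scheme.homeoOfIso U.isoSpec
  let eV := Scheme.homeoOfIso V.isoSpec
  have hm : ∀ x, eV (m x) = Spec.map m.appTop (eU x) := fun x => by
    have := congr($(Scheme.isoSpec_hom_naturality m) x)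
    simpa [eU, eV] using this.symm
  have e : eV '' (m '' Z) = Spec.map m.appTop '' (eU '' Z) := by
    simp only [Set.image_image]
    exact Set.image_congr' hm
  rw [← eV.isClosed_image, e]
  refine PrimeSpectrum.isClosed_image_of_stableUnderSpecialization m.appTop.hom _
    (eU.isClosed_image.2 hZ) ?_
  change StableUnderSpecialization (Spec.map m.appTop '' (eU '' Z))
  rw [← e]
  exact h.image eV.isClosedMap.specializingMap

variable {S : Scheme.{u}}

/-- Specializations in the base give valuative squares. -/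
theorem exists_valSq {P : Sp S} {U V : Over S} {π : P ⟶ (yon S).obj V} {q : (yon S).obj U ⟶ P}
    {m : U ⟶ V} (hm : q ≫ π = (yon S).map m) (u : U.left) (y : V.left) (h : m.left u ⤳ y) :
    ∃ (sq : ValSq π) (κ : sq.ptK ⟶ U) (β : sq.ptA ⟶ V), (yon S).map κ ≫ q = sq.top ∧
      (∀ p, κ.left p = u) ∧ (yon S).map β = sq.bot ∧ β.left (closedPoint sq.A) = y := by
  let stalk_y_to_residue : V.left.presheaf.stalk y ⟶ U.left.residueField u :=
    V.left.presheaf.stalkSpecializes h ≫ m.left.stalkMap u ≫ U.left.residue u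
  obtain ⟨A, hA, hA_local⟩ := exists_factor_valuationRing stalk_y_to_residue.hom
  let stalk_y_to_A : V.left.presheaf.stalk y ⟶ .of A :=
    CommRingCat.ofHom (stalk_y_to_residue.hom.codRestrict _ hA)
  let K : Type u := U.left.residueField u
  have w : U.left.fromSpecResidueField u ≫ m.left =
      Spec.map (CommRingCat.ofHom (algebraMap A K)) ≫
        Spec.map stalk_y_to_A ≫ V.left.fromSpecStalk y := by
    rw [Scheme.fromSpecResidueField, Category.assoc, ← Scheme.SpecMap_stalkMap_fromSpecStalk,
      ← Scheme.SpecMap_stalkSpecializes_fromSpecStalk h]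
    simp_rw [← Spec.map_comp_assoc]
    rfl
  let str : Spec (CommRingCat.of A) ⟶ S := (Spec.map stalk_y_to_A ≫ V.left.fromSpecStalk y) ≫ V.hom
  let β : Over.mk str ⟶ V := Over.homMk (Spec.map stalk_y_to_A ≫ V.left.fromSpecStalk y) rfl
  let j : Over.mk (Spec.map (CommRingCat.ofHom (algebraMap A K)) ≫ str) ⟶ Over.mk str :=
    Over.homMk (Spec.map (CommRingCat.ofHom (algebraMap A K))) rfl
  let κ : Over.mk (Spec.map (CommRingCat.ofHom (algebraMap A K)) ≫ str) ⟶ U :=
    Over.homMk (U.left.fromSpecResidueField u) (by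
      rw [← Over.w m, reassoc_of% w]
      simp [str])
  have hκ : κ ≫ m = j ≫ β := Over.OverMorphism.ext w
  refine ⟨⟨A, K, str, (yon S).map κ ≫ q, (yon S).map β, ?_⟩, κ, β, rfl, fun p => ?_, rfl, ?_⟩
  · rw [Category.assoc, hm, ← Functor.map_comp, hκ, Functor.map_comp]
  · exact Scheme.fromSpecResidueField_apply u p
  · show V.left.fromSpecStalk y (Spec.map stalk_y_to_A (closedPoint A)) = y
    have : Spec.map stalk_y_to_A (closedPoint A) = closedPoint (V.left.presheaf.stalk y) :=
      comap_closedPoint (S := A) (stalk_y_to_residue.hom.codRestrict A.toSubring hA)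
    rw [this, V.left.fromSpecStalk_closedPoint]

/-- A lift of such a square shows that the specialization lifts to any closed set containing the
point. -/
theorem exists_specialization {P : Sp S} {V : Over S} {π : P ⟶ (yon S).obj V} (sq : ValSq π)
    (he : sq.HasLiftExt) {C : Set (Points P)} (hC : IsClosed C) (hη : ∀ p, Points.ofPt sq.top p ∈ C) :
    ∃ z ∈ C, Points.map π z = Points.ofPt sq.bot (closedPoint sq.A) := by
  obtain ⟨e, l, h₁, h₂⟩ := he
  haveI : IsLocalHom e.φ := e.isLocalHom
  let jA : e.ptK' ⟶ e.ptA' :=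
    Over.homMk (Spec.map (CommRingCat.ofHom (algebraMap e.A' e.K'))) rfl
  refine ⟨Points.ofPt l (closedPoint e.A'), ?_, ?_⟩
  · have hgen : Points.ofPt l (jA.left (closedPoint e.K')) ∈ C := by
      rw [← ofPt_yon_map_comp, h₁, ofPt_yon_map_comp]
      exact hη _
    exact ((specializes_closedPoint _).map (Points.continuous_ofPt l)).mem_closed hC hgen
  · rw [Points.map_ofPt, h₂, ofPt_yon_map_comp]
    congr 1
    exact comap_closedPoint e.φ

/-- Quasi-compact morphisms satisfying the existence criterion are universally closed. -/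
theorem isUnivClosedMor_of_existVC {X Y : Space S} (f : X ⟶ Y)
    (hq : IsQuasiCompactMor f.hom) (he : ExistVC f.hom) : IsUnivClosedMor f.hom := by
  intro Z Z' hZ g fst snd sq
  refine fun C hC => ?_
  rw [← isOpen_compl_iff, Points.isOpen_iff]
  intro T a
  refine isOpen_iff_forall_mem_open.2 fun t ht => ?_
  obtain ⟨O, hO, htO, -⟩ := exists_isAffineOpen_mem_and_subset (x := t) (U := ⊤) trivial
  let V : Over S := Over.mk (O.ι ≫ T.hom)
  let ι : V ⟶ T := Over.homMk O.ι rfl
  haveI : IsAffine V.left := hO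
  suffices h : IsOpen (ι.left ⁻¹' (Points.ofPt a ⁻¹' (Points.map snd '' C)ᶜ)) from
    ⟨ι.left '' (ι.left ⁻¹' _), Set.image_preimage_subset _ _, O.ι.isOpenEmbedding.isOpenMap _ h,
      ⟨⟨t, htO⟩, ht, rfl⟩⟩
  have sqP := IsPullback.of_hasPullback snd ((yon S).map ι ≫ a)
  have hZ' : IsAlgSpace Z' := isAlgSpace_of_isPullback sq Y.property.diag X.property hZ
  have hP : IsAlgSpace (pullback snd ((yon S).map ι ≫ a)) :=
    isAlgSpace_of_isPullback sqP hZ.diag hZ' (IsAlgSpace.yon_obj V)
  haveI : CompactSpace ↥V.left := Scheme.compactSpace_of_isAffine _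
  haveI := QC.compactSpace_of_isQuasiCompactMor hq (sqP.paste_horiz sq)
  obtain ⟨U, q, hU, -, hqs⟩ := QC.exists_affine_atlas hP
  let PS : Space S := ⟨_, hP⟩
  let VS : Space S := ⟨(yon S).obj V, IsAlgSpace.yon_obj V⟩
  let π : PS ⟶ VS := ObjectProperty.homMk (pullback.snd snd ((yon S).map ι ≫ a))
  have heπ : ExistVC π.hom := (Groth.Agent.S10286.result f
    (ObjectProperty.homMk (((yon S).map ι ≫ a) ≫ g) : VS ⟶ Y)
    (ObjectProperty.homMk (pullback.fst snd ((yon S).map ι ≫ a) ≫ fst) : PS ⟶ X) π
    (sqP.paste_horiz sq)).1 he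
  obtain ⟨m, hm⟩ := (yon S).map_surjective (q ≫ π.hom)
  let C' : Set (Points (pullback snd ((yon S).map ι ≫ a))) := Points.map (pullback.fst _ _) ⁻¹' C
  have hC' : IsClosed C' := hC.preimage (Points.continuous_map _)
  have himg : ι.left ⁻¹' (Points.ofPt a ⁻¹' (Points.map snd '' C)) =
      m.left '' (Points.ofPt q ⁻¹' C') := by
    ext v
    constructor
    · rintro ⟨c, hc, hcv⟩
      obtain ⟨z, hz₁, hz₂⟩ := exists_of_isPullback sqP c (Points.ofPt (𝟙 _) v) (by
        rw [hcv, Points.map_ofPt, Category.id_comp, ofPt_yon_map_comp])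
      obtain ⟨u, rfl⟩ := surjective_ofPt hqs z
      refine ⟨u, show Points.map _ _ ∈ C by rw [hz₁]; exact hc, (Points.schemeHomeo V).injective ?_⟩
      refine Eq.trans ?_ (hz₂.trans rfl)
      rw [Points.map_ofPt]
      show _ = Points.ofPt (q ≫ π.hom) u
      rw [← hm, ← Category.comp_id ((yon S).map m), ofPt_yon_map_comp]
      rfl
    · rintro ⟨u, hu, rfl⟩
      refine ⟨Points.map (pullback.fst _ _) (Points.ofPt q u), hu, ?_⟩
      rw [← Points.map_comp, Points.map_ofPt, pullback.condition, ← Category.assoc]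
      show Points.ofPt ((q ≫ π.hom) ≫ (yon S).map ι ≫ a) u = _
      rw [← hm, ofPt_yon_map_comp, ofPt_yon_map_comp]
  rw [Set.preimage_compl, Set.preimage_compl, isOpen_compl_iff, himg]
  refine isClosed_image_of_stable m.left (hC'.preimage (Points.continuous_ofPt q)) ?_
  rintro y₁ y hy ⟨u, hu, rfl⟩
  obtain ⟨sqv, κ, β, hκ, hκu, hβ, hβy⟩ := exists_valSq hm.symm u y hy
  obtain ⟨z, hz, hzy⟩ := exists_specialization sqv (heπ sqv) hC' fun p => by
    rw [← hκ, ofPt_yon_map_comp, hκu]; exact hu
  obtain ⟨u', rfl⟩ := surjective_ofPt hqs z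
  refine ⟨u', hz, (Points.schemeHomeo V).injective ?_⟩
  rw [← hβ, ← Category.comp_id ((yon S).map β), ofPt_yon_map_comp, hβy, Points.map_ofPt] at hzy
  refine Eq.trans ?_ (hzy.trans rfl)
  rw [← hm, ← Category.comp_id ((yon S).map m), ofPt_yon_map_comp]
  rfl

end Groth.Agent.Lib.AlgSpVal
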