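import Groth.Agent.Lib.AlgSpVal.SepLift
import Groth.Agent.Lib.AlgSpace.Diag

/-!
# Valuative squares of separated morphisms descend lifts
-/

set_option autoImplicit false
set_option linter.style.haveILetI false

universe u

open CategoryTheory CategoryTheory.Limits AlgebraicGeometry IsLocalRing
open AlgSp Groth.Agent.Lib.AlgSpace

namespace Groth.Agent.Lib.AlgSpVal

variable {S : Scheme.{u}}

/-- An open set of the spectrum of a local ring containing the closed point is everything. -/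
theorem eq_top_of_closedPoint_mem {A : Type u} [CommRing A] [IsLocalRing A]
    (U : (Spec (.of A)).Opens) (h : closedPoint A ∈ U) : U = ⊤ :=
  eq_top_iff.2 fun p _ => by
    have hp : (p : PrimeSpectrum A) ⤳ closedPoint A :=
      (PrimeSpectrum.le_iff_specializes _ _).1 (le_maximalIdeal p.2.ne_top)
    exact hp.mem_open U.2 h

/-- A lift after a dominating extension gives a lift, for a separated morphism. -/
theorem hasLift_of_domExt {F G : Sp S} (hF : IsAlgSpace F) (hG : IsAlgSpace G) {f : F ⟶ G}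
    (hf : IsSeparatedMor f) (sq : ValSq f) (e : sq.DomExt) (he : e.HasLift) : sq.HasLift := by
  obtain ⟨l, h₁, h₂⟩ := he
  haveI : IsLocalHom e.φ := e.isLocalHom
  have sqP := IsPullback.of_hasPullback f sq.bot
  have hP : IsAlgSpace (pullback f sq.bot) :=
    isAlgSpace_of_isPullback sqP hG.diag hF (IsAlgSpace.yon_obj sq.ptA)
  have hπ : RepWith @IsClosedImmersion (pullback.diagonal (pullback.snd f sq.bot)) :=
    AlgSpMor.Sep.repWith_diagonal_baseChange sqP hf
  let φ : e.ptA' ⟶ sq.ptA := Over.homMk (Spec.map (CommRingCat.ofHom e.φ)) rfl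
  let jA : e.ptK' ⟶ e.ptA' :=
    Over.homMk (Spec.map (CommRingCat.ofHom (algebraMap e.A' e.K'))) rfl
  let jψ : e.ptK' ⟶ sq.ptK := Over.homMk (Spec.map (CommRingCat.ofHom e.ψ)) (by
    change Spec.map _ ≫ Spec.map _ ≫ _ = Spec.map _ ≫ Spec.map _ ≫ _
    rw [← Spec.map_comp_assoc, ← Spec.map_comp_assoc, ← CommRingCat.ofHom_comp,
      ← CommRingCat.ofHom_comp, e.comm])
  have w : jA ≫ φ = jψ ≫ sq.j := by
    ext : 1
    change Spec.map _ ≫ Spec.map _ = Spec.map _ ≫ Spec.map _
    rw [← Spec.map_comp, ← Spec.map_comp, ← CommRingCat.ofHom_comp, ← CommRingCat.ofHom_comp,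
      e.comm]
  haveI : IsAffine sq.ptA.left := inferInstanceAs (IsAffine (Spec _))
  haveI : IsAffine sq.ptK.left := inferInstanceAs (IsAffine (Spec _))
  haveI : IsAffine e.ptA'.left := inferInstanceAs (IsAffine (Spec _))
  haveI : IsAffine e.ptK'.left := inferInstanceAs (IsAffine (Spec _))
  obtain ⟨hfl, hsj⟩ := flat_surjective_of_dominating (K := sq.K) (K' := e.K') e.φ e.ψ e.comm
  haveI : Flat φ.left := hfl
  haveI : Surjective φ.left := hsj
  haveI : Flat sq.j.left := (HasRingHomProperty.Spec_iff (P := @Flat)).2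
    (RingHom.flat_algebraMap_iff.2 (IsLocalization.flat sq.K (nonZeroDivisors sq.A)))
  haveI : Epi (CommRingCat.ofHom (algebraMap sq.A sq.K)) := IsLocalization.epi (nonZeroDivisors sq.A) sq.K
  haveI : Mono sq.j :=
    (Over.forget S).mono_of_mono_map (inferInstanceAs (Mono (Scheme.Spec.map (CommRingCat.ofHom (algebraMap sq.A sq.K)).op)))
  obtain ⟨s, hs₁, hs₂⟩ : ∃ s, s ≫ pullback.fst f sq.bot = sq.top ∧
      s ≫ pullback.snd f sq.bot = (yon S).map sq.j :=
    ⟨sqP.lift _ _ sq.comm, sqP.lift_fst _ _ _, sqP.lift_snd _ _ _⟩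
  obtain ⟨l', hl₁, hl₂⟩ : ∃ l', l' ≫ pullback.fst f sq.bot = l ∧
      l' ≫ pullback.snd f sq.bot = (yon S).map φ :=
    ⟨sqP.lift _ _ h₂, sqP.lift_fst _ _ _, sqP.lift_snd _ _ _⟩
  have hls : (yon S).map jA ≫ l' = (yon S).map jψ ≫ s := by
    refine sqP.hom_ext ?_ ?_
    · rw [Category.assoc, Category.assoc, hl₁, hs₁]
      exact h₁
    · rw [Category.assoc, Category.assoc, hl₂, hs₂, ← Functor.map_comp, ← Functor.map_comp, w]
  obtain ⟨m, hm₁, hm₂⟩ := exists_lift hP hπ φ jA
    (H9.Val.appTop_specMap_injective _ (IsFractionRing.injective e.A' e.K')) jψ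
    (H9.Val.appTop_specMap_injective _ e.ψ.injective) sq.j
    (H9.Val.appTop_specMap_injective _ (IsFractionRing.injective sq.A sq.K)) w
    (closedPoint sq.A) eq_top_of_closedPoint_mem (closedPoint e.A')
    (comap_closedPoint e.φ) hs₂ hl₂ hls
  refine ⟨m ≫ pullback.fst f sq.bot, by rw [reassoc_of% hm₁, hs₁], ?_⟩
  rw [Category.assoc, pullback.condition, reassoc_of% hm₂]

end Groth.Agent.Lib.AlgSpVal
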