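import Groth.Agent.Lib.AlgSpVal.Closed
import Groth.Agent.Lib.AlgSpMor.Sep
import Groth.Agent.Lib.AlgSpace.Props
import Mathlib.RingTheory.Spectrum.Prime.Topology

/-!
# Universally closed quasi-separated morphisms satisfy the existence criterion
-/

set_option autoImplicit false
set_option linter.style.haveILetI false

universe u

open CategoryTheory CategoryTheory.Limits AlgebraicGeometry IsLocalRing
open AlgSp Groth.Agent.Lib.AlgSpace Groth.Agent.Lib.AlgSpMor

namespace Groth.Agent.Lib.AlgSpVal

variable {S : Scheme.{u}}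

/-- A chart by an affine scheme of a quasi-separated space has finite fibres over field valued
points. -/
theorem finite_fibre_chart {P : Sp S} {T₀ K₀ U W : Over S}
    {π : P ⟶ (yon S).obj T₀} (hπ : RepWith @QuasiCompact (pullback.diagonal π))
    [IsAffine T₀.left] [IsAffine U.left] [IsAffine K₀.left] [Subsingleton ↥K₀.left]
    {q : (yon S).obj U ⟶ P} (hq : RepWith @Etale q) {s : (yon S).obj K₀ ⟶ P} (pt : K₀.left)
    {a : W ⟶ U} {b : W ⟶ K₀} (sq : IsPullback ((yon S).map a) ((yon S).map b) q s) :
    Finite W.left := by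
  obtain ⟨k, hk⟩ := (yon S).map_surjective (q ≫ π)
  obtain ⟨j, hj⟩ := (yon S).map_surjective (s ≫ π)
  have hab : a ≫ k = b ≫ j := (yon S).map_injective (by
    rw [Functor.map_comp, Functor.map_comp, hk, hj, reassoc_of% sq.w])
  have sq₀ := IsPullback.of_hasPullback k j
  have sq₁ : IsPullback (pullback.fst k j).left (pullback.snd k j).left k.left j.left :=
    sq₀.map (Over.forget S)
  have : IsAffine (pullback k j).left := .of_isPullback sq₁
  have hc : QuasiCompact (pullback.lift a b hab : W ⟶ pullback k j).left := by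
    have wd : ((yon S).map (pullback.fst k j) ≫ q) ≫ π = ((yon S).map (pullback.snd k j) ≫ s) ≫ π := by
      rw [Category.assoc, Category.assoc, ← hk, ← hj, ← Functor.map_comp, ← Functor.map_comp,
        pullback.condition]
    refine repWith_property hπ (ξ := pullback.lift _ _ wd) (fst := (yon S).map a ≫ q) ?_
    refine isPullback_of_yon ?_ (fun T c c' h₁ h₂ => ?_) fun T x y hxy => ?_
    · apply pullback.hom_ext
      · simp only [Category.assoc, pullback.diagonal_fst, Category.comp_id, pullback.lift_fst,
          ← Functor.map_comp_assoc]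
      · simp only [Category.assoc, pullback.diagonal_snd, Category.comp_id, pullback.lift_snd,
          ← Functor.map_comp_assoc, sq.w]
    · refine sq.hom_ext ?_ ?_
      · have := congrArg (· ≫ (yon S).map (pullback.fst k j)) h₂
        simpa only [Category.assoc, ← Functor.map_comp, pullback.lift_fst] using this
      · have := congrArg (· ≫ (yon S).map (pullback.snd k j)) h₂
        simpa only [Category.assoc, ← Functor.map_comp, pullback.lift_snd] using this
    · have e₁ : x = y ≫ (yon S).map (pullback.fst k j) ≫ q := by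
        simpa [pullback.lift_fst] using congrArg (· ≫ pullback.fst π π) hxy
      have e₂ : x = y ≫ (yon S).map (pullback.snd k j) ≫ s := by
        simpa [pullback.lift_snd] using congrArg (· ≫ pullback.snd π π) hxy
      obtain ⟨c, hc₁, hc₂⟩ : ∃ c, c ≫ (yon S).map a = y ≫ (yon S).map (pullback.fst k j) ∧
          c ≫ (yon S).map b = y ≫ (yon S).map (pullback.snd k j) :=
        ⟨sq.lift _ _ (by rw [Category.assoc, Category.assoc, ← e₁, ← e₂]),
          sq.lift_fst _ _ _, sq.lift_snd _ _ _⟩
      refine ⟨c, by rw [reassoc_of% hc₁, ← e₁],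
        (isPullback_yon (IsPullback.of_hasPullback k j)).hom_ext ?_ ?_⟩
      · rw [Category.assoc, ← Functor.map_comp, pullback.lift_fst, hc₁]
      · rw [Category.assoc, ← Functor.map_comp, pullback.lift_snd, hc₂]
  haveI : CompactSpace ↥W.left :=
    QuasiCompact.compactSpace_of_compactSpace (pullback.lift a b hab : W ⟶ pullback k j).left
  have : Etale b.left := repWith_property hq sq
  have := Groth.Agent.Lib.AlgSpace.locallyQuasiFinite_of_etale b.left
  have : QuasiCompact b.left := HasAffineProperty.iff_of_isAffine.mpr ‹_›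
  have hfin : (Set.univ : Set W.left).Finite :=
    (b.left.finite_preimage_singleton pt).subset fun w _ => Subsingleton.elim _ _
  exact Set.finite_univ_iff.1 hfin

/-- A chart by a quasi-compact scheme of a quasi-separated space has finite fibres over field
valued points, and a specialization can be lifted to it. -/
theorem exists_specializes_chart {P : Sp S} {T₀ K₀ U : Over S} (hP : IsAlgSpace P)
    {π : P ⟶ (yon S).obj T₀} (hπ : RepWith @QuasiCompact (pullback.diagonal π))
    [IsAffine T₀.left] [IsAffine U.left] [IsAffine K₀.left] [Subsingleton ↥K₀.left]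
    {q : (yon S).obj U ⟶ P} (hq : RepWith @Etale q) (s : (yon S).obj K₀ ⟶ P) (pt : K₀.left)
    (u' : U.left) (h : Points.ofPt q u' ∈ closure {Points.ofPt s pt}) :
    ∃ (W : Over S) (a : W ⟶ U) (b : W ⟶ K₀) (w : W.left),
      IsPullback ((yon S).map a) ((yon S).map b) q s ∧ a.left w ⤳ u' := by
  obtain ⟨W, a, b, sq⟩ := exists_isPullback_yon hP.diag q s
  have hfin : (Set.univ : Set W.left).Finite :=
    Set.finite_univ_iff.2 (finite_fibre_chart hπ hq pt sq)
  have hpre : Points.ofPt q ⁻¹' {Points.ofPt s pt} = a.left '' Set.univ := by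
    ext v
    rw [Set.mem_preimage, Set.mem_singleton_iff, ofPt_eq_ofPt_iff_of_isPullback sq]
    exact ⟨fun ⟨w, h₁, _⟩ => ⟨w, trivial, h₁⟩, fun ⟨w, _, h₁⟩ => ⟨w, h₁, Subsingleton.elim _ _⟩⟩
  have hmem : u' ∈ closure (a.left '' Set.univ) := by
    rw [← hpre, ← (isOpenMap_ofPt hq).preimage_closure_eq_closure_preimage
      (Points.continuous_ofPt q)]
    exact h
  rw [← Set.biUnion_of_singleton (a.left '' Set.univ), (hfin.image a.left).closure_biUnion] at hmem
  obtain ⟨v, hv, hu⟩ := Set.mem_iUnion₂.1 hmem
  obtain ⟨w, -, rfl⟩ := hv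
  exact ⟨W, a, b, w, sq, specializes_iff_mem_closure.2 hu⟩

/-- Points of an etale scheme over a field have finite separable residue fields. -/
theorem finite_isSeparable_residueField {K : Type u} [Field K] {W : Scheme.{u}}
    (b : W ⟶ Spec (.of K)) [Etale b] (w : W) (ψ : K →+* W.residueField w)
    (hψ : Spec.map (CommRingCat.ofHom ψ) = W.fromSpecResidueField w ≫ b) :
    (letI := ψ.toAlgebra; Module.Finite K (W.residueField w) ∧
      Algebra.IsSeparable K (W.residueField w)) := by
  algebraize [ψ]
  haveI : Subsingleton ↥(Spec (CommRingCat.of K)) :=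
    inferInstanceAs (Subsingleton (PrimeSpectrum K))
  have := Groth.Agent.Lib.AlgSpace.locallyQuasiFinite_of_etale b
  have hd : DiscreteTopology W := by
    rw [← isDiscrete_univ_iff]
    have e : (Set.univ : Set W) = b ⁻¹' {b w} :=
      Set.ext fun x => iff_of_true trivial (Subsingleton.elim _ _)
    exact e ▸ b.isDiscrete_preimage_singleton _
  have : IsClosedImmersion (W.fromSpecResidueField w) :=
    isClosed_singleton_iff_isClosedImmersion.1 (isClosed_discrete _)
  have h₁ : LocallyOfFiniteType (Spec.map (CommRingCat.ofHom ψ)) := by rw [hψ]; infer_instance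
  have : IsIso (pullback.diagonal (W.fromSpecResidueField w)) :=
    pullback.isIso_diagonal_iff _ |>.2 inferInstance
  have h₂ : FormallyUnramified (Spec.map (CommRingCat.ofHom ψ)) := by
    rw [hψ]
    exact MorphismProperty.comp_mem @FormallyUnramified _ _ inferInstance inferInstance
  rw [HasRingHomProperty.Spec_iff (P := @LocallyOfFiniteType)] at h₁
  rw [HasRingHomProperty.Spec_iff (P := @FormallyUnramified)] at h₂
  have h₃ : Algebra.FiniteType K (W.residueField w) := RingHom.finiteType_algebraMap.1 h₁
  have h₄ : Algebra.FormallyUnramified K (W.residueField w) :=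
    RingHom.formallyUnramified_algebraMap.1 h₂
  exact ⟨Algebra.FormallyUnramified.finite_of_free K _, Algebra.FormallyUnramified.isSeparable K _⟩

/-- A chart point over the closed point, specialized to by a point over the generic one, gives a
lift after a finite separable extension. -/
theorem exists_domExt_of_chart {F G : Sp S} {f : F ⟶ G} (sq : ValSq f)
    {s : (yon S).obj sq.ptK ⟶ pullback f sq.bot} (hs₁ : s ≫ pullback.fst f sq.bot = sq.top)
    (hs₂ : s ≫ pullback.snd f sq.bot = (yon S).map sq.j) {U W : Over S}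
    {q : (yon S).obj U ⟶ pullback f sq.bot} (hq : RepWith @Etale q) {a : W ⟶ U} {b : W ⟶ sq.ptK}
    (sqW : IsPullback ((yon S).map a) ((yon S).map b) q s) {u' : U.left}
    (hu' : Points.map (pullback.snd f sq.bot) (Points.ofPt q u') =
      Points.schemeHomeo sq.ptA (closedPoint sq.A))
    {w : W.left} (hw : a.left w ⤳ u') :
    ∃ e : sq.DomExt, (letI := e.ψ.toAlgebra; Module.Finite sq.K e.K' ∧ Algebra.IsSeparable sq.K e.K') ∧
      e.HasLift := by
  have : Etale b.left := repWith_property hq sqW
  have hsep {ψ : CommRingCat.of sq.K ⟶ W.left.residueField w}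
      (hψ : Spec.map ψ = W.left.fromSpecResidueField w ≫ b.left) :=
    finite_isSeparable_residueField b.left w ψ.hom hψ
  obtain ⟨m, hm⟩ := (yon S).map_surjective (q ≫ pullback.snd f sq.bot)
  have hmu : m.left u' = closedPoint sq.A := by
    refine (Points.schemeHomeo sq.ptA).injective (Eq.trans ?_ hu')
    rw [Points.map_ofPt, ← hm, ← Category.comp_id ((yon S).map m), ofPt_yon_map_comp]
    rfl
  -- the valuation ring
  let L : Type u := W.left.residueField w
  let σ : U.left.presheaf.stalk u' ⟶ W.left.residueField w :=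
    U.left.presheaf.stalkSpecializes hw ≫ a.left.stalkMap w ≫ W.left.residue w
  obtain ⟨A', hA', hA'_local⟩ := exists_factor_valuationRing σ.hom
  let γ : U.left.presheaf.stalk u' ⟶ .of A' := CommRingCat.ofHom (σ.hom.codRestrict _ hA')
  let βl : Spec (CommRingCat.of A') ⟶ U.left := Spec.map γ ≫ U.left.fromSpecStalk u'
  have wU : W.left.fromSpecResidueField w ≫ a.left =
      Spec.map (CommRingCat.ofHom (algebraMap A' L)) ≫ βl := by
    rw [Scheme.fromSpecResidueField, Category.assoc, ← Scheme.SpecMap_stalkMap_fromSpecStalk,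
      ← Scheme.SpecMap_stalkSpecializes_fromSpecStalk hw]
    simp_rw [βl, ← Spec.map_comp_assoc]
    rfl
  have hβcl : βl (closedPoint A') = u' := by
    show U.left.fromSpecStalk u' (Spec.map γ (closedPoint A')) = u'
    have : Spec.map γ (closedPoint A') = closedPoint (U.left.presheaf.stalk u') :=
      comap_closedPoint (S := A') (σ.hom.codRestrict A'.toSubring hA')
    rw [this, U.left.fromSpecStalk_closedPoint]
  obtain ⟨φ, hφ⟩ := Spec.map_surjective (βl ≫ m.left)
  obtain ⟨ψ, hψ⟩ := Spec.map_surjective (W.left.fromSpecResidueField w ≫ b.left)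
  have hloc : IsLocalHom φ.hom := by
    refine (isLocalHom_iff_comap_closedPoint φ.hom).2 ?_
    show Spec.map φ (closedPoint A') = closedPoint sq.A
    rw [hφ, Scheme.Hom.comp_apply, hβcl, hmu]
  have hbj : a ≫ m = b ≫ sq.j := (yon S).map_injective (by
    rw [Functor.map_comp, Functor.map_comp, hm, ← hs₂, ← Category.assoc, sqW.w, Category.assoc])
  have hcomm : (algebraMap A' L).comp φ.hom = ψ.hom.comp (algebraMap sq.A sq.K) := by
    have h : φ ≫ CommRingCat.ofHom (algebraMap A' L) =
        CommRingCat.ofHom (algebraMap sq.A sq.K) ≫ ψ := by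
      apply Spec.map_injective
      rw [Spec.map_comp, Spec.map_comp, hφ, hψ, ← reassoc_of% wU, Category.assoc]
      exact congrArg (W.left.fromSpecResidueField w ≫ ·) (congrArg (fun k => k.left) hbj)
    exact congrArg CommRingCat.Hom.hom h
  let e : sq.DomExt :=
    { A' := A', K' := L, φ := φ.hom, ψ := ψ.hom, comm := hcomm, isLocalHom := hloc }
  let β : e.ptA' ⟶ U := Over.homMk βl (by
    change βl ≫ U.hom = Spec.map φ ≫ sq.str
    rw [hφ, Category.assoc]
    exact congrArg (βl ≫ ·) (Over.w m).symm)
  let φO : e.ptA' ⟶ sq.ptA := Over.homMk (Spec.map φ) rfl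
  have hβm : β ≫ m = φO := Over.OverMorphism.ext hφ.symm
  let κ : e.ptK' ⟶ W := Over.homMk (W.left.fromSpecResidueField w) (by
    change _ = Spec.map (CommRingCat.ofHom (algebraMap A' L)) ≫ Spec.map φ ≫ sq.str
    rw [hφ, Category.assoc, ← reassoc_of% wU]
    exact congrArg (W.left.fromSpecResidueField w ≫ ·)
      ((Over.w a).symm.trans (congrArg (a.left ≫ ·) (Over.w m).symm)))
  refine ⟨e, hsep hψ, (yon S).map β ≫ q ≫ pullback.fst f sq.bot, ?_, ?_⟩
  · have h₁ : (Over.homMk (Spec.map (CommRingCat.ofHom (algebraMap e.A' e.K'))) rfl :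
        e.ptK' ⟶ e.ptA') ≫ β = κ ≫ a := Over.OverMorphism.ext wU.symm
    rw [← Functor.map_comp_assoc, h₁, Functor.map_comp_assoc,
      ← Category.assoc ((yon S).map a), sqW.w, Category.assoc, hs₁, ← Functor.map_comp_assoc]
    congr 2
    exact Over.OverMorphism.ext hψ.symm
  · rw [Category.assoc, Category.assoc, pullback.condition, ← Category.assoc q,
      ← hm, ← Functor.map_comp_assoc, hβm]
    rfl


/-- Universally closed quasi-separated morphisms satisfy the existence criterion. -/
theorem existVC_of_isUnivClosedMor {F G : Sp S} (hF : IsAlgSpace F) (hG : IsAlgSpace G)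
    {f : F ⟶ G} (hqs : IsQuasiSeparatedMor f) (hc : IsUnivClosedMor f) : ExistVC f := by
  intro sq
  have sqP := IsPullback.of_hasPullback f sq.bot
  have hP : IsAlgSpace (pullback f sq.bot) :=
    isAlgSpace_of_isPullback sqP hG.diag hF (IsAlgSpace.yon_obj sq.ptA)
  haveI : IsAffine sq.ptA.left := inferInstanceAs (IsAffine (Spec _))
  haveI : IsAffine sq.ptK.left := inferInstanceAs (IsAffine (Spec _))
  haveI : Subsingleton ↥sq.ptK.left := inferInstanceAs (Subsingleton (PrimeSpectrum sq.K))
  obtain ⟨s, hs₁, hs₂⟩ : ∃ s, s ≫ pullback.fst f sq.bot = sq.top ∧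
      s ≫ pullback.snd f sq.bot = (yon S).map sq.j :=
    ⟨sqP.lift _ _ sq.comm, sqP.lift_fst _ _ _, sqP.lift_snd _ _ _⟩
  -- a point over the closed point in the closure of the given one
  have hcl : IsClosed (Points.map (pullback.snd f sq.bot) ''
      closure {Points.ofPt s (closedPoint sq.K)}) :=
    Proper.isClosedMap_of_isUnivClosedMor (IsAlgSpace.yon_obj sq.ptA)
      (Proper.univSp_baseChange sqP hc) _ isClosed_closure
  obtain ⟨z, hz, hzπ⟩ : Points.schemeHomeo sq.ptA (closedPoint sq.A) ∈
      Points.map (pullback.snd f sq.bot) '' closure {Points.ofPt s (closedPoint sq.K)} := by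
    refine Specializes.mem_closed ?_ hcl
      ⟨Points.ofPt s (closedPoint sq.K), subset_closure rfl, rfl⟩
    rw [Points.map_ofPt, hs₂, ← Category.comp_id ((yon S).map sq.j), ofPt_yon_map_comp]
    exact ((specializes_closedPoint (R := sq.A) (sq.j.left (closedPoint sq.K))).map
      (Points.continuous_ofPt (𝟙 ((yon S).obj sq.ptA))))
  obtain ⟨V, p, hp, hps⟩ := hP.atlas
  obtain ⟨v, rfl⟩ := surjective_ofPt hps z
  obtain ⟨O, hO, hvO, -⟩ := exists_isAffineOpen_mem_and_subset (x := v) (U := ⊤) trivial
  let U : Over S := Over.mk (O.ι ≫ V.hom)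
  let ι : U ⟶ V := Over.homMk O.ι rfl
  haveI : IsAffine U.left := hO
  have hq : RepWith @Etale ((yon S).map ι ≫ p) :=
    repWith_yon_map_comp (P := @Etale) (inferInstanceAs (Etale O.ι)) hp
  let u' : U.left := (⟨v, hvO⟩ : O)
  have hqu : Points.ofPt ((yon S).map ι ≫ p) u' = Points.ofPt p v := by rw [ofPt_yon_map_comp]; rfl
  obtain ⟨W, a, b, w, sqW, hw⟩ := exists_specializes_chart hP
    (Sep.repWith_diagonal_baseChange sqP hqs) hq s (closedPoint sq.K) u' (by rw [hqu]; exact hz)
  obtain ⟨e, -, he⟩ := exists_domExt_of_chart sq hs₁ hs₂ hq sqW (by rw [hqu]; exact hzπ) hw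
  exact ⟨e, he⟩

end Groth.Agent.Lib.AlgSpVal
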