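import Groth.Agent.Lib.AlgSpVal.Refined
import Groth.Agent.Lib.AlgSpVal.Closed
import Groth.Agent.Lib.AlgSpMor.Sep
import Groth.Agent.Lib.AlgSpMor.Proper

/-!
# The refined valuative criterion
-/

set_option autoImplicit false
set_option linter.style.haveILetI false

universe u

open CategoryTheory CategoryTheory.Limits AlgebraicGeometry IsLocalRing
open AlgSp Groth.Agent.Lib.AlgSpace Groth.Agent.Lib.AlgSpMor

namespace Groth.Agent.Lib.AlgSpVal

variable {S : Scheme.{u}}

/-- The refined criterion for universally closed morphisms. -/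
theorem isUnivClosedMor_of_dense {E X Y : Space S} (h : E ⟶ X) (f : X ⟶ Y)
    (hf : IsQuasiCompactMor f.hom) (hh : IsQuasiCompactMor h.hom)
    (hd : DenseRange (Points.map h.hom))
    (hv : ∀ sq : ValSq f.hom, (∃ t, t ≫ h.hom = sq.top) → sq.HasUniq ∧ sq.HasLiftExt) :
    IsUnivClosedMor f.hom :=
  isUnivClosedMor_of_existVC f hf
    (existVC_of_dense E.property X.property Y.property hh hd hv)

/-- Uniqueness of lifts through a dense quasi-compact part gives separatedness. -/
theorem isSeparatedMor_of_dense {E X Y : Space S} (h : E ⟶ X) (f : X ⟶ Y)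
    (hqs : IsQuasiSeparatedMor f.hom) (hh : IsQuasiCompactMor h.hom)
    (hd : DenseRange (Points.map h.hom))
    (hv : ∀ sq : ValSq f.hom, (∃ t, t ≫ h.hom = sq.top) → sq.HasUniq) :
    IsSeparatedMor f.hom := by
  obtain ⟨hr, hlft, hmono, -, -⟩ := Sep.diagonal_props f.hom X.property
  have sqP := IsPullback.of_hasPullback f.hom f.hom
  let P : Space S := ⟨pullback f.hom f.hom,
    isAlgSpace_of_isPullback sqP Y.property.diag X.property X.property⟩
  let Δ : X ⟶ P := ObjectProperty.homMk (pullback.diagonal f.hom)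
  haveI : Mono Δ.hom := inferInstanceAs (Mono (pullback.diagonal f.hom))
  have huc : IsUnivClosedMor Δ.hom := by
    refine isUnivClosedMor_of_dense h Δ (QC.isQuasiCompactMor_of_repWith hqs) hh hd
      fun sq ⟨t, ht⟩ => ⟨fun l l' _ hl _ hl' => (cancel_mono Δ.hom).1 (hl.trans hl'.symm), ?_⟩
    -- the two components of the bottom arrow are lifts of one square
    have e₁ : (yon S).map sq.j ≫ sq.bot ≫ pullback.fst f.hom f.hom = sq.top := by
      rw [← Category.assoc]
      refine (congrArg (· ≫ pullback.fst f.hom f.hom) sq.comm.symm).trans ?_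
      show (sq.top ≫ pullback.diagonal f.hom) ≫ pullback.fst f.hom f.hom = sq.top
      rw [Category.assoc, pullback.diagonal_fst, Category.comp_id]
    have e₂ : (yon S).map sq.j ≫ sq.bot ≫ pullback.snd f.hom f.hom = sq.top := by
      rw [← Category.assoc]
      refine (congrArg (· ≫ pullback.snd f.hom f.hom) sq.comm.symm).trans ?_
      show (sq.top ≫ pullback.diagonal f.hom) ≫ pullback.snd f.hom f.hom = sq.top
      rw [Category.assoc, pullback.diagonal_snd, Category.comp_id]
    let sqf : ValSq f.hom :=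
      { A := sq.A, K := sq.K, str := sq.str, top := sq.top
        bot := (sq.bot ≫ pullback.fst f.hom f.hom) ≫ f.hom
        comm := by rw [← Category.assoc, e₁] }
    have e : sq.bot ≫ pullback.fst f.hom f.hom = sq.bot ≫ pullback.snd f.hom f.hom :=
      hv sqf ⟨t, ht⟩ _ _ e₁ rfl e₂ (by
        show _ = (sq.bot ≫ pullback.fst f.hom f.hom) ≫ f.hom
        simp only [Category.assoc, pullback.condition])
    have hlift : sq.HasLift := by
      refine ⟨sq.bot ≫ pullback.fst f.hom f.hom, e₁, pullback.hom_ext ?_ ?_⟩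
      · show (_ ≫ pullback.diagonal f.hom) ≫ _ = _
        rw [Category.assoc, pullback.diagonal_fst, Category.comp_id]
      · show (_ ≫ pullback.diagonal f.hom) ≫ _ = _
        rw [Category.assoc, pullback.diagonal_snd, Category.comp_id, e]
    obtain ⟨l, h₁, h₂⟩ := hlift
    let φ₁ : Over.mk (Spec.map (CommRingCat.ofHom (RingHom.id sq.A)) ≫ sq.str) ⟶ sq.ptA :=
      Over.homMk (Spec.map (CommRingCat.ofHom (RingHom.id sq.A))) rfl
    refine ⟨{ A' := sq.A, K' := sq.K, φ := RingHom.id sq.A, ψ := RingHom.id sq.K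
              comm := rfl, isLocalHom := ⟨fun _ h => h⟩ }, (yon S).map φ₁ ≫ l, ?_, ?_⟩
    · rw [← h₁, ← Functor.map_comp_assoc, ← Functor.map_comp_assoc]
      congr 2
      refine Over.OverMorphism.ext ?_
      show Spec.map _ ≫ Spec.map _ = Spec.map _ ≫ Spec.map _
      simp
    · rw [Category.assoc, h₂]
  refine repWith_of_exists fun T p => ⟨hr.pullback p, hr.snd p, hr.fst p, hr.isPullback p, ?_⟩
  have sq := hr.isPullback p
  have h₁ : LocallyOfFiniteType (hr.snd p).left := repWith_property hlft sq
  have h₂ : Mono (hr.snd p).left := repWith_property hmono sq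
  have h₃ : UniversallyClosed (hr.snd p).left :=
    repWith_property (Proper.repWith_universallyClosed_of hr huc) sq
  rw [Sep.isClosedImmersion_eq]
  exact ⟨⟨h₃, h₁⟩, h₂⟩

end Groth.Agent.Lib.AlgSpVal
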