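import Groth.Agent.Lib.AlgSpVal.DvrExist
import Groth.Agent.Lib.AlgSpVal.RefinedMain
import Groth.Agent.H9.Val

/-!
# Noetherian valuative criteria for algebraic spaces
-/

set_option autoImplicit false
set_option linter.style.haveILetI false

universe u

open CategoryTheory CategoryTheory.Limits AlgebraicGeometry IsLocalRing
open AlgSp Groth.Agent.Lib.AlgSpace Groth.Agent.Lib.AlgSpMor

namespace Groth.Agent.Lib.AlgSpVal

variable {S : Scheme.{u}}

/-- Lifts without extension are lifts after extension. -/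
theorem hasLiftExt_of_hasLift {F G : Sp S} {f : F ⟶ G} (sq : ValSq f) (h : sq.HasLift) :
    sq.HasLiftExt := by
  obtain ⟨l, h₁, h₂⟩ := h
  let φ₁ : Over.mk (Spec.map (CommRingCat.ofHom (RingHom.id sq.A)) ≫ sq.str) ⟶ sq.ptA :=
    Over.homMk (Spec.map (CommRingCat.ofHom (RingHom.id sq.A))) rfl
  refine ⟨{ A' := sq.A, K' := sq.K, φ := RingHom.id sq.A, ψ := RingHom.id sq.K
            comm := rfl, isLocalHom := ⟨fun _ h => h⟩ }, (yon S).map φ₁ ≫ l, ?_, ?_⟩
  · rw [← h₁, ← Functor.map_comp_assoc, ← Functor.map_comp_assoc]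
    congr 2
    refine Over.OverMorphism.ext ?_
    show Spec.map _ ≫ Spec.map _ = Spec.map _ ≫ Spec.map _
    simp
  · rw [Category.assoc, h₂]

/-- Spaces locally of finite type over locally Noetherian spaces are locally Noetherian. -/
theorem isLocNoethSp_of_locP {X Y : Sp S} (hX : IsAlgSpace X) (hY : IsAlgSpace Y) {f : X ⟶ Y}
    (hf : LocP @LocallyOfFiniteType f) (hN : IsLocNoethSp Y) : IsLocNoethSp X := by
  obtain ⟨V, b, hb, hbs, hV⟩ := hN
  haveI : IsLocallyNoetherian V.left := hV
  obtain ⟨U, a, k, ha, has, w⟩ := LocP.exists_chart_over hX hY f hb hbs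
  have : LocallyOfFiniteType k.left := hf a b k ha hb w
  exact ⟨U, a, ha, has, LocallyOfFiniteType.isLocallyNoetherian k.left⟩

/-- Properness from discrete valuation rings through a dense part. -/
theorem isUnivClosedMor_of_dvr {E X Y : Space S} (h : E ⟶ X) (f : X ⟶ Y)
    (hN : IsLocNoethSp Y.obj) (hf : IsFiniteTypeMor f.hom) (hs : IsSeparatedMor f.hom)
    (hh : IsFiniteTypeMor h.hom) (hd : DenseRange (Points.map h.hom))
    (H : ∀ sq : ValSq f.hom, IsDiscreteValuationRing sq.A → (∃ t, t ≫ h.hom = sq.top) →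
      sq.HasLiftExt) :
    IsUnivClosedMor f.hom := by
  refine isUnivClosedMor_of_dense h f hf.2 hh.2 hd fun sq ht => ⟨H9.Val.uniqVC_of_diag hs sq, ?_⟩
  have hqs : IsQuasiSeparatedMor f.hom :=
    repWith_mono hs fun _ _ g (_ : IsClosedImmersion g) => (inferInstance : QuasiCompact g)
  exact hasLiftExt_of_dvr E.property X.property Y.property hN hh.1 hf.1 hf.2 hqs H sq ht

/-- Separatedness from discrete valuation rings through a dense part. -/
theorem isSeparatedMor_of_dvr {E X Y : Space S} (h : E ⟶ X) (f : X ⟶ Y)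
    (hN : IsLocNoethSp Y.obj) (hf : LocP @LocallyOfFiniteType f.hom)
    (hqs : IsQuasiSeparatedMor f.hom)
    (hh : IsFiniteTypeMor h.hom) (hd : DenseRange (Points.map h.hom))
    (H : ∀ sq : ValSq f.hom, IsDiscreteValuationRing sq.A → (∃ t, t ≫ h.hom = sq.top) →
      sq.HasUniq) :
    IsSeparatedMor f.hom := by
  obtain ⟨hr, hlft, hmono, -, -⟩ := Sep.diagonal_props f.hom X.property
  have sqP := IsPullback.of_hasPullback f.hom f.hom
  let P : Space S := ⟨pullback f.hom f.hom,
    isAlgSpace_of_isPullback sqP Y.property.diag X.property X.property⟩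
  let Δ : X ⟶ P := ObjectProperty.homMk (pullback.diagonal f.hom)
  haveI : Mono Δ.hom := inferInstanceAs (Mono (pullback.diagonal f.hom))
  haveI : IsIso (pullback.diagonal Δ.hom) := (pullback.isIso_diagonal_iff Δ.hom).2 inferInstance
  have hΔqs : IsQuasiSeparatedMor Δ.hom := repWith_of_isIso @QuasiCompact (pullback.diagonal Δ.hom)
  have hΔqc : IsQuasiCompactMor Δ.hom := QC.isQuasiCompactMor_of_repWith hqs
  have hΔft : LocP @LocallyOfFiniteType Δ.hom :=
    LocP.locP_of_repWith SourceDescent.Scheme.locallyOfFiniteType hlft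
  have hPN : IsLocNoethSp P.obj := isLocNoethSp_of_locP P.property X.property
    (LocP.locP_of_isPullback SourceDescent.Scheme.locallyOfFiniteType X.property Y.property
      X.property sqP hf)
    (isLocNoethSp_of_locP X.property Y.property hf hN)
  have hlift : ∀ sq : ValSq Δ.hom, IsDiscreteValuationRing sq.A → (∃ t, t ≫ h.hom = sq.top) →
      sq.HasLiftExt := by
    intro sq hsq ⟨t, ht⟩
    have e₁ : (yon S).map sq.j ≫ sq.bot ≫ pullback.fst f.hom f.hom = sq.top := by
      rw [← Category.assoc]
      refine (congrArg (· ≫ pullback.fst f.hom f.hom) sq.comm.symm).trans ?_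
      show (sq.top ≫ pullback.diagonal f.hom) ≫ pullback.fst f.hom f.hom = sq.top
      rw [Category.assoc, pullback.diagonal_fst, Category.comp_id]
    have e₂ : (yon S).map sq.j ≫ sq.bot ≫ pullback.snd f.hom f.hom = sq.top := by
      rw [← Category.assoc]
      refine (congrArg (· ≫ pullback.snd f.hom f.hom) sq.comm.symm).trans ?_
      show (sq.top ≫ pullback.diagonal f.hom) ≫ pullback.snd f.hom f.hom = sq.top
      rw [Category.assoc, pullback.diagonal_snd, Category.comp_id]
    let sqf : ValSq f.hom :=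
      { A := sq.A, K := sq.K, str := sq.str, top := sq.top
        bot := (sq.bot ≫ pullback.fst f.hom f.hom) ≫ f.hom
        comm := by rw [← Category.assoc, e₁] }
    have e : sq.bot ≫ pullback.fst f.hom f.hom = sq.bot ≫ pullback.snd f.hom f.hom :=
      H sqf hsq ⟨t, ht⟩ _ _ e₁ rfl e₂ (by
        show _ = (sq.bot ≫ pullback.fst f.hom f.hom) ≫ f.hom
        simp only [Category.assoc, pullback.condition])
    refine hasLiftExt_of_hasLift sq
      ⟨sq.bot ≫ pullback.fst f.hom f.hom, e₁, pullback.hom_ext ?_ ?_⟩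
    · show (_ ≫ pullback.diagonal f.hom) ≫ _ = _
      rw [Category.assoc, pullback.diagonal_fst, Category.comp_id]
    · show (_ ≫ pullback.diagonal f.hom) ≫ _ = _
      rw [Category.assoc, pullback.diagonal_snd, Category.comp_id, e]
  have huc : IsUnivClosedMor Δ.hom :=
    isUnivClosedMor_of_dense h Δ hΔqc hh.2 hd fun sq ht =>
      ⟨fun l l' _ hl _ hl' => (cancel_mono Δ.hom).1 (hl.trans hl'.symm),
        hasLiftExt_of_dvr E.property X.property P.property hPN hh.1 hΔft hΔqc hΔqs hlift sq ht⟩
  refine repWith_of_exists fun T p => ⟨hr.pullback p, hr.snd p, hr.fst p, hr.isPullback p, ?_⟩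
  have sq := hr.isPullback p
  have h₁ : LocallyOfFiniteType (hr.snd p).left := repWith_property hlft sq
  have h₂ : Mono (hr.snd p).left := repWith_property hmono sq
  have h₃ : UniversallyClosed (hr.snd p).left :=
    repWith_property (Proper.repWith_universallyClosed_of hr huc) sq
  rw [Sep.isClosedImmersion_eq]
  exact ⟨⟨h₃, h₁⟩, h₂⟩

/-- The identity is of finite type. -/
theorem isFiniteTypeMor_id (X : Space S) : IsFiniteTypeMor (𝟙 X : X ⟶ X).hom :=
  ⟨LocP.locP_of_repWith SourceDescent.Scheme.locallyOfFiniteType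
      (repWith_of_isIso @LocallyOfFiniteType (𝟙 X.obj)),
    QC.isQuasiCompactMor_of_repWith (repWith_of_isIso @QuasiCompact (𝟙 X.obj))⟩

theorem denseRange_map_id (X : Space S) : DenseRange (Points.map (𝟙 X : X ⟶ X).hom) :=
  Function.Surjective.denseRange fun x => ⟨x, Points.map_id x⟩

end Groth.Agent.Lib.AlgSpVal
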