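import Mathlib.AlgebraicGeometry.Morphisms.Affine
import Mathlib.AlgebraicGeometry.Morphisms.ClosedImmersion
import Mathlib.AlgebraicGeometry.Morphisms.Flat
import Mathlib.RingTheory.RingHom.FaithfullyFlat
import Mathlib.RingTheory.Flat.TorsionFree
import Mathlib.RingTheory.Valuation.ValuationRing
import Groth.Agent.Lib.Ferrand.BaseChangeRing

/-!
# Injectivity on global functions for affine morphisms
-/

set_option autoImplicit false

universe u

open CategoryTheory CategoryTheory.Limits AlgebraicGeometry TensorProduct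

namespace Groth.Agent.Lib.AlgSpVal

/-- A faithfully flat morphism of affine schemes is injective on global functions. -/
theorem appTop_injective_of_fpqc {T' T : Scheme.{u}} (g : T' ⟶ T) [IsAffine T'] [IsAffine T]
    [Flat g] [Surjective g] : Function.Injective g.appTop.hom := by
  refine RingHom.FaithfullyFlat.injective (RingHom.FaithfullyFlat.iff_flat_and_comap_surjective.2
    ⟨(HasRingHomProperty.iff_of_isAffine (P := @Flat)).1 inferInstance, ?_⟩)
  have : Surjective (Spec.map g.appTop) :=
    (MorphismProperty.arrow_mk_iso_iff @Surjective (arrowIsoSpecΓOfIsAffine g)).1 ‹_›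
  exact this.surj

/-- Injectivity on global functions is stable under flat affine base change. -/
theorem appTop_injective_baseChange {W U Z' Z : Scheme.{u}} [IsAffine U] [IsAffine Z'] [IsAffine Z]
    {fst : W ⟶ U} {snd : W ⟶ Z'} {a : U ⟶ Z} {p : Z' ⟶ Z} (h : IsPullback fst snd a p) [Flat p]
    (ha : Function.Injective a.appTop.hom) : Function.Injective snd.appTop.hom := by
  have hpo := (isPushout_appTop_of_isPullback h).flip
  obtain ⟨e, he⟩ := Ferrand.exists_equiv hpo
  letI := p.appTop.hom.toAlgebra
  letI := a.appTop.hom.toAlgebra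
  have : Module.Flat Γ(Z, ⊤) Γ(Z', ⊤) :=
    (HasRingHomProperty.iff_of_isAffine (P := @Flat)).1 ‹Flat p›
  have hinj := Algebra.TensorProduct.includeLeft_injective (S := Γ(Z, ⊤))
    (A := Γ(Z', ⊤)) (B := Γ(U, ⊤)) (R := Γ(Z, ⊤)) ha
  intro x y hxy
  refine hinj (e.injective ?_)
  show e (x ⊗ₜ 1) = e (y ⊗ₜ 1)
  rw [he, he, map_one, mul_one, mul_one]
  exact hxy

/-- An affine morphism of affine schemes factors through a closed subscheme of the target on which
it is injective on global functions. -/
theorem exists_image {U' U : Scheme.{u}} (a : U' ⟶ U) [IsAffine U'] [IsAffine U] :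
    ∃ (Z : Scheme.{u}) (ι : Z ⟶ U) (a₀ : U' ⟶ Z), IsAffine Z ∧ IsClosedImmersion ι ∧
      a₀ ≫ ι = a ∧ Function.Injective a₀.appTop.hom := by
  let f := a.appTop.hom
  have hs : IsClosedImmersion (Spec.map (CommRingCat.ofHom f.rangeRestrict)) :=
    IsClosedImmersion.spec_of_surjective _ f.rangeRestrict_surjective
  refine ⟨Spec (.of f.range), Spec.map (CommRingCat.ofHom f.rangeRestrict) ≫ U.isoSpec.inv,
    U'.isoSpec.hom ≫ Spec.map (CommRingCat.ofHom f.range.subtype), inferInstance, inferInstance,
    ?_, ?_⟩
  · rw [Category.assoc, ← Spec.map_comp_assoc,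
      show CommRingCat.ofHom f.rangeRestrict ≫ CommRingCat.ofHom f.range.subtype = a.appTop from
        CommRingCat.hom_ext (RingHom.ext fun _ => rfl),
      reassoc_of% (Scheme.isoSpec_hom_naturality a), Iso.hom_inv_id, Category.comp_id]
  · have h1 : Function.Injective (Spec.map (CommRingCat.ofHom f.range.subtype)).appTop := by
      rw [show (Spec.map (CommRingCat.ofHom f.range.subtype)).appTop = (Scheme.ΓSpecIso _).hom ≫
        CommRingCat.ofHom f.range.subtype ≫ (Scheme.ΓSpecIso _).inv by
          rw [← Scheme.ΓSpecIso_naturality_assoc, Iso.hom_inv_id, Category.comp_id]]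
      exact ((ConcreteCategory.bijective_of_isIso (Scheme.ΓSpecIso _).inv).1.comp
        Subtype.val_injective).comp (ConcreteCategory.bijective_of_isIso (Scheme.ΓSpecIso _).hom).1
    rw [Scheme.Hom.comp_appTop]
    haveI : IsIso U'.isoSpec.hom.appTop := inferInstanceAs (IsIso (Scheme.Γ.map U'.isoSpec.hom.op))
    exact (ConcreteCategory.bijective_of_isIso U'.isoSpec.hom.appTop).1.comp h1

/-- A dominating map of valuation rings is faithfully flat. -/
theorem flat_surjective_of_dominating {A A' K K' : Type u} [CommRing A] [IsDomain A]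
    [ValuationRing A] [CommRing A'] [IsDomain A'] [ValuationRing A'] [Field K] [Field K']
    [Algebra A K] [IsFractionRing A K] [Algebra A' K'] (φ : A →+* A') (ψ : K →+* K')
    (hc : (algebraMap A' K').comp φ = ψ.comp (algebraMap A K)) [IsLocalHom φ] :
    Flat (Spec.map (CommRingCat.ofHom φ)) ∧ Surjective (Spec.map (CommRingCat.ofHom φ)) := by
  have hinj : Function.Injective φ := by
    refine Function.Injective.of_comp (f := algebraMap A' K') ?_
    rw [← RingHom.coe_comp, hc]
    exact ψ.injective.comp (IsFractionRing.injective A K)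
  letI := φ.toAlgebra
  have : Module.IsTorsionFree A A' := by
    refine Module.isTorsionFree_iff_smul_eq_zero.2 fun r x h => ?_
    rw [Algebra.smul_def, mul_eq_zero] at h
    exact h.imp (fun h => hinj (h.trans (map_zero φ).symm)) id
  have : Module.Flat A A' := by
    rw [Module.Flat.flat_iff_torsion_eq_bot_of_isBezout, ← Submodule.isTorsionFree_iff_torsion_eq_bot]
    infer_instance
  have : IsLocalHom (algebraMap A A') := ‹IsLocalHom φ›
  have hff : φ.FaithfullyFlat := (Module.FaithfullyFlat.of_flat_of_isLocalHom :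
    Module.FaithfullyFlat A A')
  obtain ⟨h₁, h₂⟩ := RingHom.FaithfullyFlat.iff_flat_and_comap_surjective.1 hff
  exact ⟨(HasRingHomProperty.Spec_iff (P := @Flat)).2 h₁, ⟨h₂⟩⟩

end Groth.Agent.Lib.AlgSpVal
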