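import Groth.Agent.Lib.AlgSpVal.Affine
import Groth.Agent.H9.Val
import Groth.Agent.Lib.AlgSpMor.Sep
import Groth.Agent.Lib.AlgSpace.Props
import Mathlib.AlgebraicGeometry.Morphisms.LocalFlatDescent
import Mathlib.AlgebraicGeometry.Morphisms.UniversallyOpen

/-!
# Lifts of valuative squares descend along dominating extensions
-/

set_option autoImplicit false
set_option linter.style.haveILetI false

universe u

open CategoryTheory CategoryTheory.Limits AlgebraicGeometry
open AlgSp Groth.Agent.Lib.AlgSpace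

namespace Groth.Agent.Lib.AlgSpVal

variable {S : Scheme.{u}}

/-- The underlying square of schemes of a cartesian square of schemes over `S`. -/
theorem isPullback_left {A B C D : Over S} {fst : A ⟶ B} {snd : A ⟶ C} {f : B ⟶ D} {g : C ⟶ D}
    (sq : IsPullback fst snd f g) : IsPullback fst.left snd.left f.left g.left :=
  sq.map (Over.forget S)

/-- Maps from an affine scheme to a separated space agree if they agree after a map injective on
global functions. -/
theorem eq_of_agree {F G : Sp S} {f : F ⟶ G}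
    (hf : RepWith @IsClosedImmersion (pullback.diagonal f)) {T T' : Over S} [IsAffine T.left]
    (g : T' ⟶ T) (hg : Function.Injective g.left.appTop.hom) {a b : (yon S).obj T ⟶ F}
    (h : a ≫ f = b ≫ f) (h' : (yon S).map g ≫ a = (yon S).map g ≫ b) : a = b := by
  let p : (yon S).obj T ⟶ pullback f f := pullback.lift a b h
  have hcl : IsClosedImmersion (hf.1.snd p).left :=
    hf.2 p (hf.1.fst p) (hf.1.snd p) (hf.1.isPullback p)
  have hk : ((yon S).map g ≫ a) ≫ pullback.diagonal f = (yon S).map g ≫ p := by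
    apply pullback.hom_ext <;> simp [p, h', pullback.lift_fst, pullback.lift_snd]
  obtain ⟨k, hk'⟩ := (yon S).map_surjective ((hf.1.isPullback p).lift _ _ hk)
  have hkj : k ≫ hf.1.snd p = g := by
    apply (yon S).map_injective
    rw [Functor.map_comp, hk', IsPullback.lift_snd]
  have : IsIso (hf.1.snd p).left :=
    H9.Val.isIso_of_factors _ k.left g.left (congrArg (fun m => m.left) hkj) hg
  have : IsIso (hf.1.snd p) := H9.Val.isIso_left_of_isIso _
  rw [← cancel_epi ((yon S).map (hf.1.snd p))]
  have e := hf.1.w p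
  have e₁ := congrArg (· ≫ pullback.fst f f) e
  have e₂ := congrArg (· ≫ pullback.snd f f) e
  simp only [Category.assoc, pullback.diagonal_fst, pullback.diagonal_snd, Category.comp_id, p,
    pullback.lift_fst, pullback.lift_snd] at e₁ e₂
  exact e₁.symm.trans e₂

/-- Points of a cartesian square of schemes. -/
theorem exists_preimage_left {A B C D : Over S} {fst : A ⟶ B} {snd : A ⟶ C} {f : B ⟶ D}
    {g : C ⟶ D} (sq : IsPullback fst snd f g) (x : B.left) (y : C.left) (h : f.left x = g.left y) :
    ∃ z : A.left, fst.left z = x ∧ snd.left z = y := by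
  obtain ⟨z, hz₁, hz₂⟩ := Scheme.Pullback.exists_preimage_pullback x y h
  exact ⟨(isPullback_left sq).isoPullback.inv z,
    by rw [← Scheme.Hom.comp_apply, IsPullback.isoPullback_inv_fst, hz₁],
    by rw [← Scheme.Hom.comp_apply, IsPullback.isoPullback_inv_snd, hz₂]⟩

variable {P : Sp S} {T₀ T₁ K₀ K₁ : Over S}

/-- A chart of `P` and its pullback along a point of a scheme. -/
theorem exists_affine_chart (hP : IsAlgSpace P) (l : (yon S).obj T₁ ⟶ P) (x : T₁.left) :
    ∃ (U U'' : Over S) (q : (yon S).obj U ⟶ P) (a : U'' ⟶ U) (e : U'' ⟶ T₁), IsAffine U.left ∧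
      RepWith @Etale q ∧ IsPullback ((yon S).map a) ((yon S).map e) q l ∧ x ∈ Set.range e.left := by
  obtain ⟨V, p, hp, hps⟩ := hP.atlas
  obtain ⟨W, w, e, sq⟩ := exists_isPullback_yon hP.diag p l
  obtain ⟨z, rfl⟩ := (repWith_property hps sq).surj x
  obtain ⟨U₀, hU₀, hz, -⟩ := exists_isAffineOpen_mem_and_subset (x := w.left z) (U := ⊤) trivial
  let U : Over S := Over.mk (U₀.ι ≫ V.hom)
  let u : U ⟶ V := Over.homMk U₀.ι rfl
  have hu : Etale u.left := inferInstanceAs (Etale U₀.ι)
  have sqU := IsPullback.of_hasPullback u w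
  obtain ⟨z', -, hz'⟩ := exists_preimage_left sqU (⟨w.left z, hz⟩ : U.left) z rfl
  refine ⟨U, pullback u w, (yon S).map u ≫ p, pullback.fst u w, pullback.snd u w ≫ e,
    hU₀, repWith_yon_map_comp (P := @Etale) hu hp, ?_,
    ⟨z', by rw [Over.comp_left, Scheme.Hom.comp_apply]; exact congrArg e.left hz'⟩⟩
  rw [Functor.map_comp]
  exact (isPullback_yon sqU).paste_vert sq

/-- The two pullbacks of a lift to the square of the extension agree. -/
theorem pair_eq {π : P ⟶ (yon S).obj T₀} (hπ : RepWith @IsClosedImmersion (pullback.diagonal π))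
    [IsAffine T₀.left] [IsAffine T₁.left] [IsAffine K₀.left] [IsAffine K₁.left] (φ : T₁ ⟶ T₀)
    [Flat φ.left] (jA : K₁ ⟶ T₁) (hjA : Function.Injective jA.left.appTop.hom) (jψ : K₁ ⟶ K₀)
    (j : K₀ ⟶ T₀) [Flat j.left] [Mono j] (hj : Function.Injective j.left.appTop.hom)
    (w : jA ≫ φ = jψ ≫ j) {s : (yon S).obj K₀ ⟶ P} (hs : s ≫ π = (yon S).map j)
    {l : (yon S).obj T₁ ⟶ P} (hl : l ≫ π = (yon S).map φ)
    (hls : (yon S).map jA ≫ l = (yon S).map jψ ≫ s) :
    (yon S).map (pullback.fst φ φ) ≫ l = (yon S).map (pullback.snd φ φ) ≫ l := by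
  have sq₁ := IsPullback.of_hasPullback φ j
  have : IsAffine (pullback φ j).left := .of_isPullback (isPullback_left sq₁)
  -- on the generic fibre of the extension the lift is the given point
  have key : (yon S).map (pullback.fst φ j) ≫ l = (yon S).map (pullback.snd φ j) ≫ s := by
    have sqg := IsPullback.of_hasPullback jA (pullback.fst φ j)
    have : Flat (pullback.fst φ j).left :=
      MorphismProperty.of_isPullback (P := @Flat) (isPullback_left sq₁).flip ‹Flat j.left›
    refine eq_of_agree hπ (pullback.snd jA (pullback.fst φ j))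
      (appTop_injective_baseChange (isPullback_left sqg) hjA) ?_ ?_
    · rw [Category.assoc, Category.assoc, hl, hs, ← Functor.map_comp, ← Functor.map_comp,
        pullback.condition]
    · have e : pullback.fst jA (pullback.fst φ j) ≫ jψ =
          pullback.snd jA (pullback.fst φ j) ≫ pullback.snd φ j := by
        rw [← cancel_mono j, Category.assoc, ← w, reassoc_of% sqg.w, pullback.condition,
          Category.assoc]
      rw [← Functor.map_comp_assoc, ← Functor.map_comp_assoc, ← sqg.w, Functor.map_comp_assoc, hls,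
        ← Functor.map_comp_assoc, e]
  have sq₂ := IsPullback.of_hasPullback φ φ
  have : IsAffine (pullback φ φ).left := .of_isPullback (isPullback_left sq₂)
  have : Flat (pullback.fst φ φ).left :=
    MorphismProperty.of_isPullback (P := @Flat) (isPullback_left sq₂).flip ‹Flat φ.left›
  have : Flat (pullback.fst φ φ ≫ φ).left := by rw [Over.comp_left]; infer_instance
  have sqg := IsPullback.of_hasPullback j (pullback.fst φ φ ≫ φ)
  refine eq_of_agree hπ (pullback.snd j (pullback.fst φ φ ≫ φ))
    (appTop_injective_baseChange (isPullback_left sqg) hj) ?_ ?_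
  · rw [Category.assoc, Category.assoc, hl, ← Functor.map_comp, ← Functor.map_comp,
      pullback.condition]
  · obtain ⟨c₁, h₁, h₁'⟩ : ∃ c, c ≫ pullback.fst φ j =
        pullback.snd j (pullback.fst φ φ ≫ φ) ≫ pullback.fst φ φ ∧
        c ≫ pullback.snd φ j = pullback.fst j (pullback.fst φ φ ≫ φ) :=
      ⟨pullback.lift _ _ (by rw [Category.assoc, ← sqg.w]), pullback.lift_fst _ _ _,
        pullback.lift_snd _ _ _⟩
    obtain ⟨c₂, h₂, h₂'⟩ : ∃ c, c ≫ pullback.fst φ j =
        pullback.snd j (pullback.fst φ φ ≫ φ) ≫ pullback.snd φ φ ∧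
        c ≫ pullback.snd φ j = pullback.fst j (pullback.fst φ φ ≫ φ) :=
      ⟨pullback.lift _ _ (by rw [Category.assoc, ← pullback.condition (f := φ), ← sqg.w]),
        pullback.lift_fst _ _ _, pullback.lift_snd _ _ _⟩
    rw [← Functor.map_comp_assoc, ← Functor.map_comp_assoc, ← h₁, ← h₂, Functor.map_comp_assoc,
      Functor.map_comp_assoc, key, ← Functor.map_comp_assoc, ← Functor.map_comp_assoc, h₁', h₂']

/-- Lifts of valuative squares over a scheme descend along faithfully flat extensions. -/
theorem exists_lift (hP : IsAlgSpace P) {π : P ⟶ (yon S).obj T₀}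
    (hπ : RepWith @IsClosedImmersion (pullback.diagonal π)) [IsAffine T₀.left] [IsAffine T₁.left]
    [IsAffine K₀.left] [IsAffine K₁.left] (φ : T₁ ⟶ T₀) [Flat φ.left] [Surjective φ.left]
    (jA : K₁ ⟶ T₁) (hjA : Function.Injective jA.left.appTop.hom) (jψ : K₁ ⟶ K₀)
    (hjψ : Function.Injective jψ.left.appTop.hom) (j : K₀ ⟶ T₀) [Flat j.left] [Mono j]
    (hj : Function.Injective j.left.appTop.hom) (w : jA ≫ φ = jψ ≫ j)
    (x₀ : T₀.left) (hx₀ : ∀ U : T₀.left.Opens, x₀ ∈ U → U = ⊤)
    (x₁ : T₁.left) (hx₁ : φ.left x₁ = x₀)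
    {s : (yon S).obj K₀ ⟶ P} (hs : s ≫ π = (yon S).map j)
    {l : (yon S).obj T₁ ⟶ P} (hl : l ≫ π = (yon S).map φ)
    (hls : (yon S).map jA ≫ l = (yon S).map jψ ≫ s) :
    ∃ m : (yon S).obj T₀ ⟶ P, (yon S).map j ≫ m = s ∧ m ≫ π = 𝟙 _ := by
  have hpair := pair_eq hπ φ jA hjA jψ j hj w hs hl hls
  obtain ⟨U, U₁, q, a, e, hU, hq, sq, hxe⟩ := exists_affine_chart hP l x₁
  obtain ⟨k, hk⟩ := (yon S).map_surjective (q ≫ π)
  have hae : a ≫ k = e ≫ φ := (yon S).map_injective (by
    rw [Functor.map_comp, Functor.map_comp, hk, ← hl, reassoc_of% sq.w])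
  have : IsAffine (pullback k φ).left :=
    .of_isPullback (isPullback_left (IsPullback.of_hasPullback k φ))
  -- the chart of the lift is a closed subscheme of the base changed chart
  have hc : IsClosedImmersion (pullback.lift a e hae : U₁ ⟶ pullback k φ).left := by
    have wd : ((yon S).map (pullback.fst k φ) ≫ q) ≫ π = ((yon S).map (pullback.snd k φ) ≫ l) ≫ π := by
      rw [Category.assoc, Category.assoc, hl, ← hk, ← Functor.map_comp, ← Functor.map_comp,
        pullback.condition]
    have sqd : IsPullback ((yon S).map a ≫ q) ((yon S).map (pullback.lift a e hae))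
        (pullback.diagonal π) (pullback.lift _ _ wd) := by
      refine isPullback_of_yon ?_ (fun T c c' h₁ h₂ => ?_) fun T x y hxy => ?_
      · apply pullback.hom_ext
        · simp only [Category.assoc, pullback.diagonal_fst, Category.comp_id, pullback.lift_fst,
            ← Functor.map_comp_assoc]
        · simp only [Category.assoc, pullback.diagonal_snd, Category.comp_id, pullback.lift_snd,
            ← Functor.map_comp_assoc, sq.w]
      · refine sq.hom_ext ?_ ?_
        · have := congrArg (· ≫ (yon S).map (pullback.fst k φ)) h₂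
          simpa only [Category.assoc, ← Functor.map_comp, pullback.lift_fst] using this
        · have := congrArg (· ≫ (yon S).map (pullback.snd k φ)) h₂
          simpa only [Category.assoc, ← Functor.map_comp, pullback.lift_snd] using this
      · have e₁ : x = y ≫ (yon S).map (pullback.fst k φ) ≫ q := by
          simpa [pullback.lift_fst] using congrArg (· ≫ pullback.fst π π) hxy
        have e₂ : x = y ≫ (yon S).map (pullback.snd k φ) ≫ l := by
          simpa [pullback.lift_snd] using congrArg (· ≫ pullback.snd π π) hxy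
        obtain ⟨c, hc₁, hc₂⟩ : ∃ c, c ≫ (yon S).map a = y ≫ (yon S).map (pullback.fst k φ) ∧
            c ≫ (yon S).map e = y ≫ (yon S).map (pullback.snd k φ) :=
          ⟨sq.lift _ _ (by rw [Category.assoc, Category.assoc, ← e₁, ← e₂]),
            sq.lift_fst _ _ _, sq.lift_snd _ _ _⟩
        refine ⟨c, by rw [reassoc_of% hc₁, ← e₁], (isPullback_yon (IsPullback.of_hasPullback k φ)).hom_ext ?_ ?_⟩
        · rw [Category.assoc, ← Functor.map_comp, pullback.lift_fst, hc₁]
        · rw [Category.assoc, ← Functor.map_comp, pullback.lift_snd, hc₂]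
    exact repWith_property hπ sqd
  have : IsAffine U₁.left := isAffine_of_isAffineHom (pullback.lift a e hae : U₁ ⟶ pullback k φ).left
  -- its image in the chart
  obtain ⟨Zl, ιl, a₀l, hZ, hι, ha, hinj⟩ := exists_image a.left
  let Z : Over S := Over.mk (ιl ≫ U.hom)
  let ι : Z ⟶ U := Over.homMk ιl rfl
  let a₀ : U₁ ⟶ Z := Over.homMk a₀l (by
    show a₀l ≫ ιl ≫ U.hom = _
    rw [reassoc_of% ha, Over.w a])
  have haι : a₀ ≫ ι = a := Over.OverMorphism.ext ha
  have : IsAffine Z.left := hZ
  have : Mono ι := (Over.forget S).mono_of_mono_map (inferInstanceAs (Mono ιl))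
  have hζ : a₀ ≫ (ι ≫ k) = e ≫ φ := by rw [reassoc_of% haι, hae]
  -- the image becomes the chart of the lift after extension
  let θ : U₁ ⟶ pullback (ι ≫ k) φ := pullback.lift a₀ e hζ
  have : IsAffine (pullback (ι ≫ k) φ).left :=
    .of_isPullback (isPullback_left (IsPullback.of_hasPullback (ι ≫ k) φ))
  have hθc : IsClosedImmersion θ.left := by
    obtain ⟨μ, hμ⟩ : ∃ μ : pullback (ι ≫ k) φ ⟶ pullback k φ, μ =
        pullback.map (ι ≫ k) φ k φ ι (𝟙 _) (𝟙 _) (Category.comp_id _) (by simp) := ⟨_, rfl⟩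
    have : IsClosedImmersion (θ.left ≫ μ.left) := by
      rw [← Over.comp_left]
      convert hc using 2
      apply pullback.hom_ext
      · simp [θ, hμ, haι, pullback.lift_fst, pullback.lift_fst_assoc]
      · simp [θ, hμ, pullback.lift_snd, pullback.lift_snd_assoc]
    exact IsClosedImmersion.of_comp θ.left μ.left
  have hθ : IsIso θ := by
    have : IsAffine (pullback (a₀ ≫ ι ≫ k) φ).left :=
      .of_isPullback (isPullback_left (IsPullback.of_hasPullback (a₀ ≫ ι ≫ k) φ))
    let n : pullback (a₀ ≫ ι ≫ k) φ ⟶ pullback (ι ≫ k) φ :=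
      pullback.lift (pullback.fst (a₀ ≫ ι ≫ k) φ ≫ a₀) (pullback.snd _ _)
        (by rw [Category.assoc, pullback.condition])
    have sqn : IsPullback (pullback.fst (a₀ ≫ ι ≫ k) φ) n a₀ (pullback.fst (ι ≫ k) φ) :=
      IsPullback.of_bot (by simpa [n, pullback.lift_snd] using (IsPullback.of_hasPullback (a₀ ≫ ι ≫ k) φ))
        (pullback.lift_fst _ _ _).symm (IsPullback.of_hasPullback (ι ≫ k) φ)
    have : Flat (pullback.fst (ι ≫ k) φ).left :=
      MorphismProperty.of_isPullback (P := @Flat)
        (isPullback_left (IsPullback.of_hasPullback (ι ≫ k) φ)).flip ‹Flat φ.left›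
    have hn : Function.Injective n.left.appTop.hom :=
      appTop_injective_baseChange (isPullback_left sqn) hinj
    obtain ⟨c, hc'⟩ : ∃ c : pullback (a₀ ≫ ι ≫ k) φ ⟶ pullback φ φ,
        c ≫ pullback.fst φ φ = pullback.fst _ _ ≫ e ∧ c ≫ pullback.snd φ φ = pullback.snd _ _ :=
      ⟨pullback.lift (pullback.fst _ _ ≫ e) (pullback.snd _ _)
        (by rw [Category.assoc, ← hζ, pullback.condition]), pullback.lift_fst _ _ _,
        pullback.lift_snd _ _ _⟩
    obtain ⟨m, hm⟩ := (yon S).map_surjective (sq.lift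
      ((yon S).map (pullback.fst (a₀ ≫ ι ≫ k) φ ≫ a)) ((yon S).map (pullback.snd (a₀ ≫ ι ≫ k) φ)) (by
        rw [Functor.map_comp_assoc, sq.w, ← Functor.map_comp_assoc, ← hc'.1, ← hc'.2,
          Functor.map_comp_assoc, Functor.map_comp_assoc, hpair]))
    have hm₁ : m ≫ a = pullback.fst _ _ ≫ a :=
      (yon S).map_injective (by rw [Functor.map_comp, hm, sq.lift_fst])
    have hm₂ : m ≫ e = pullback.snd _ _ :=
      (yon S).map_injective (by rw [Functor.map_comp, hm, sq.lift_snd])
    have hmn : m ≫ θ = n := by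
      apply pullback.hom_ext
      · rw [← cancel_mono ι]
        simp [θ, n, haι, hm₁, pullback.lift_fst, pullback.lift_fst_assoc]
      · simp [θ, n, hm₂, pullback.lift_snd]
    have : IsIso θ.left := H9.Val.isIso_of_factors θ.left m.left n.left
      (congrArg (fun t => t.left) hmn) hn
    exact H9.Val.isIso_left_of_isIso θ
  have sqZ : IsPullback a₀ e (ι ≫ k) φ :=
    (IsPullback.of_hasPullback (ι ≫ k) φ).of_iso (asIso θ).symm (Iso.refl _) (Iso.refl _)
      (Iso.refl _) (by simp [θ, pullback.lift_fst, pullback.lift_snd, pullback.lift_snd_assoc]) (by simp [θ, pullback.lift_fst, pullback.lift_snd, pullback.lift_snd_assoc]) (by simp) (by simp)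
  have hcov : (@Surjective ⊓ @Flat ⊓ @QuasiCompact : MorphismProperty Scheme.{u}) φ.left :=
    ⟨⟨‹_›, ‹_›⟩, inferInstance⟩
  have he : Etale e.left := repWith_property hq sq
  have hζe : Etale (ι ≫ k).left :=
    MorphismProperty.of_isPullback_of_descendsAlong (P := @Etale) (isPullback_left sqZ).flip
      hcov he
  have hζs : Surjective (ι ≫ k).left := by
    obtain ⟨z, rfl⟩ := hxe
    let O : T₀.left.Opens := ⟨_, (ι ≫ k).left.isOpenMap.isOpen_range⟩
    have hO : O = ⊤ := hx₀ O ⟨a₀.left z, by
      rw [← hx₁, ← Scheme.Hom.comp_apply, ← Over.comp_left, sqZ.w]; rfl⟩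
    exact ⟨fun y => (hO.ge (Set.mem_univ y) : y ∈ O)⟩
  have hes : Surjective e.left :=
    MorphismProperty.of_isPullback (isPullback_left sqZ) hζs
  haveI := isLocallySurjective_of_etale ((repWith_yon_map_iff _ (ι ≫ k)).2 hζe)
    ((repWith_yon_map_iff _ (ι ≫ k)).2 hζs)
  haveI := isLocallySurjective_of_etale ((repWith_yon_map_iff _ e).2 he)
    ((repWith_yon_map_iff _ e).2 hes)
  haveI := (Sheaf.isLocallySurjective_iff_epi' (Type (u + 1)) ((yon S).map (ι ≫ k))).1 inferInstance
  haveI := (Sheaf.isLocallySurjective_iff_epi' (Type (u + 1)) ((yon S).map e)).1 inferInstance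
  -- the image chart defines the lift
  have sqR := IsPullback.of_hasPullback (ι ≫ k) (ι ≫ k)
  have : IsAffine (pullback (ι ≫ k) (ι ≫ k)).left := .of_isPullback (isPullback_left sqR)
  have hqπ : (yon S).map ι ≫ q ≫ π = (yon S).map (ι ≫ k) := by rw [← hk, Functor.map_comp]
  obtain ⟨m, hm⟩ : ∃ m, (yon S).map (ι ≫ k) ≫ m = (yon S).map ι ≫ q := by
    refine Groth.Agent.Lib.AlgSpace.exists_desc _ (isPullback_yon sqR) _ ?_
    let ρ := pullback.fst (ι ≫ k) (ι ≫ k) ≫ ι ≫ k
    have sqρ := IsPullback.of_hasPullback ρ φ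
    have : IsAffine (pullback ρ φ).left := .of_isPullback (isPullback_left sqρ)
    have : Flat (pullback.fst ρ φ).left :=
      MorphismProperty.of_isPullback (P := @Flat) (isPullback_left sqρ).flip ‹Flat φ.left›
    have : Surjective (pullback.fst ρ φ).left :=
      MorphismProperty.of_isPullback (P := @Surjective) (isPullback_left sqρ).flip
        ‹Surjective φ.left›
    refine eq_of_agree hπ (pullback.fst ρ φ) (appTop_injective_of_fpqc _) ?_ ?_
    · rw [Category.assoc, Category.assoc, Category.assoc, Category.assoc, hqπ, ← Functor.map_comp,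
        ← Functor.map_comp, pullback.condition]
    · obtain ⟨c₁, h₁, h₁'⟩ : ∃ c, c ≫ a₀ = pullback.fst ρ φ ≫ pullback.fst _ _ ∧
          c ≫ e = pullback.snd ρ φ :=
        ⟨sqZ.lift (pullback.fst ρ φ ≫ pullback.fst _ _) (pullback.snd ρ φ)
          (by rw [Category.assoc]; exact pullback.condition),
          sqZ.lift_fst _ _ _, sqZ.lift_snd _ _ _⟩
      obtain ⟨c₂, h₂, h₂'⟩ : ∃ c, c ≫ a₀ = pullback.fst ρ φ ≫ pullback.snd _ _ ∧
          c ≫ e = pullback.snd ρ φ :=
        ⟨sqZ.lift (pullback.fst ρ φ ≫ pullback.snd _ _) (pullback.snd ρ φ)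
          (by rw [Category.assoc, ← pullback.condition (f := ι ≫ k)]; exact pullback.condition),
          sqZ.lift_fst _ _ _, sqZ.lift_snd _ _ _⟩
      rw [← Functor.map_comp_assoc (yon S) (pullback.fst ρ φ) (pullback.fst _ _), ← h₁,
        ← Functor.map_comp_assoc (yon S) (pullback.fst ρ φ) (pullback.snd _ _), ← h₂,
        ← Functor.map_comp_assoc, ← Functor.map_comp_assoc, Category.assoc, Category.assoc, haι, Functor.map_comp_assoc,
        Functor.map_comp_assoc, sq.w, ← Functor.map_comp_assoc, ← Functor.map_comp_assoc, h₁', h₂']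
  have hmπ : m ≫ π = 𝟙 _ := by
    rw [← cancel_epi ((yon S).map (ι ≫ k)), reassoc_of% hm, hqπ, Category.comp_id]
  have hφm : (yon S).map φ ≫ m = l := by
    rw [← cancel_epi ((yon S).map e), ← Functor.map_comp_assoc, ← hζ, Functor.map_comp_assoc, hm,
      ← Functor.map_comp_assoc, haι, sq.w]
  refine ⟨m, eq_of_agree hπ jψ hjψ ?_ ?_, hmπ⟩
  · rw [Category.assoc, hmπ, Category.comp_id, hs]
  · rw [← Functor.map_comp_assoc, ← w, Functor.map_comp_assoc, hφm, hls]

end Groth.Agent.Lib.AlgSpVal
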