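import Groth.Agent.Lib.AlgSpVal.Existence
import Groth.Agent.Lib.AlgSpVal.SepLift
import Mathlib.AlgebraicGeometry.Morphisms.UniversallyOpen

/-!
# Finite separable extensions suffice in the existence criterion
-/

set_option autoImplicit false
set_option linter.style.haveILetI false

universe u

open CategoryTheory CategoryTheory.Limits AlgebraicGeometry IsLocalRing
open AlgSp Groth.Agent.Lib.AlgSpace Groth.Agent.Lib.AlgSpMor

namespace Groth.Agent.Lib.AlgSpVal

variable {S : Scheme.{u}}

/-- The image of the point of the fraction field specializes to every point. -/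
theorem specializes_algebraMap {A K : Type u} [CommRing A] [IsDomain A] [Field K] [Algebra A K]
    [IsFractionRing A K] (x : Spec (CommRingCat.of A)) :
    Spec.map (CommRingCat.ofHom (algebraMap A K)) (closedPoint K) ⤳ x := by
  refine (PrimeSpectrum.le_iff_specializes _ _).1 (fun a ha => ?_)
  have h : algebraMap A K a ∈ (closedPoint K).asIdeal := ha
  change algebraMap A K a ∈ maximalIdeal K at h
  rw [maximalIdeal_eq_bot, Ideal.mem_bot] at h
  rw [IsFractionRing.injective A K (h.trans (map_zero _).symm)]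
  exact zero_mem _

/-- In the existence criterion finite separable extensions suffice. -/
theorem exists_domExt_finite_separable {F G : Sp S} (hF : IsAlgSpace F) (hG : IsAlgSpace G)
    {f : F ⟶ G} (hf : ExistVC f) (sq : ValSq f) :
    ∃ e : sq.DomExt, (letI := e.ψ.toAlgebra; Module.Finite sq.K e.K' ∧ Algebra.IsSeparable sq.K e.K') ∧
      e.HasLift := by
  have sqP := IsPullback.of_hasPullback f sq.bot
  have hP : IsAlgSpace (pullback f sq.bot) :=
    isAlgSpace_of_isPullback sqP hG.diag hF (IsAlgSpace.yon_obj sq.ptA)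
  haveI : Subsingleton ↥sq.ptK.left := inferInstanceAs (Subsingleton (PrimeSpectrum sq.K))
  obtain ⟨s, hs₁, hs₂⟩ : ∃ s, s ≫ pullback.fst f sq.bot = sq.top ∧
      s ≫ pullback.snd f sq.bot = (yon S).map sq.j :=
    ⟨sqP.lift _ _ sq.comm, sqP.lift_fst _ _ _, sqP.lift_snd _ _ _⟩
  obtain ⟨e, l, hl₁, hl₂⟩ := hf sq
  let φO : e.ptA' ⟶ sq.ptA := Over.homMk (Spec.map (CommRingCat.ofHom e.φ)) rfl
  let jO : e.ptK' ⟶ e.ptA' :=
    Over.homMk (Spec.map (CommRingCat.ofHom (algebraMap e.A' e.K'))) rfl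
  let ψO : e.ptK' ⟶ sq.ptK := Over.homMk (Spec.map (CommRingCat.ofHom e.ψ)) (by
    change Spec.map _ ≫ Spec.map _ ≫ _ = Spec.map _ ≫ Spec.map _ ≫ _
    rw [← Spec.map_comp_assoc, ← Spec.map_comp_assoc, ← CommRingCat.ofHom_comp,
      ← CommRingCat.ofHom_comp, e.comm])
  have hj : jO ≫ φO = ψO ≫ sq.j := Over.OverMorphism.ext (by
    change Spec.map _ ≫ Spec.map _ = Spec.map _ ≫ Spec.map _
    rw [← Spec.map_comp, ← Spec.map_comp, ← CommRingCat.ofHom_comp, ← CommRingCat.ofHom_comp,
      e.comm])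
  obtain ⟨l', hl'₁, hl'₂⟩ : ∃ l', l' ≫ pullback.fst f sq.bot = l ∧
      l' ≫ pullback.snd f sq.bot = (yon S).map φO :=
    ⟨sqP.lift _ _ hl₂, sqP.lift_fst _ _ _, sqP.lift_snd _ _ _⟩
  have hls : (yon S).map jO ≫ l' = (yon S).map ψO ≫ s := by
    refine sqP.hom_ext ?_ ?_
    · rw [Category.assoc, Category.assoc, hl'₁, hs₁]
      exact hl₁
    · rw [Category.assoc, Category.assoc, hl'₂, hs₂, ← Functor.map_comp, ← Functor.map_comp, hj]
  -- a chart at the image of the closed point
  obtain ⟨U, U'', q, a', e', hU, hq, sqU, z, hz⟩ := exists_affine_chart hP l' (closedPoint e.A')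
  obtain ⟨W, a, b, sqW⟩ := exists_isPullback_yon hP.diag q s
  have : Etale e'.left := repWith_property hq sqU
  let η : e.ptA'.left := jO.left (closedPoint e.K')
  obtain ⟨z₀, hz₀, hz₀η⟩ := (Flat.generalizingMap e'.left) (a := z) (b := η)
    (by rw [hz]; exact specializes_algebraMap _)
  have hη : Points.ofPt q (a'.left z₀) = Points.ofPt s (closedPoint sq.K) := by
    rw [← ofPt_yon_map_comp, sqU.w, ofPt_yon_map_comp, hz₀η, ← ofPt_yon_map_comp, hls,
      ofPt_yon_map_comp]
    exact congrArg _ (Subsingleton.elim _ _)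
  obtain ⟨w, hw, -⟩ := (ofPt_eq_ofPt_iff_of_isPullback sqW _ _).1 hη
  refine exists_domExt_of_chart sq hs₁ hs₂ hq sqW (u' := a'.left z) ?_ (w := w) ?_
  · rw [← ofPt_yon_map_comp, sqU.w, ofPt_yon_map_comp, hz, Points.map_ofPt, hl'₂,
      ← Category.comp_id ((yon S).map φO), ofPt_yon_map_comp]
    have := e.isLocalHom
    exact congrArg _ (IsLocalRing.comap_closedPoint e.φ)
  · rw [hw]
    exact hz₀.map a'.left.continuous

end Groth.Agent.Lib.AlgSpVal
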