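import Groth.Agent.Lib.AlgSpVal.Existence
import Groth.Agent.Lib.AlgSpVal.SepLift
import Groth.Agent.Lib.AlgSpVal.Separable
import Mathlib.AlgebraicGeometry.Morphisms.UniversallyOpen
import Mathlib.AlgebraicGeometry.Noetherian

/-!
# Valuative squares may be assumed to land in an affine chart
-/

set_option autoImplicit false
set_option linter.style.haveILetI false

universe u

open CategoryTheory CategoryTheory.Limits AlgebraicGeometry IsLocalRing
open AlgSp Groth.Agent.Lib.AlgSpace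

namespace Groth.Agent.Lib.AlgSpVal

variable {S : Scheme.{u}}

/-- The morphism over `S` of spectra given by a ring map. -/
noncomputable def sm {R T : Type u} [CommRing R] [CommRing T] {sR : Spec (.of R) ⟶ S}
    {sT : Spec (.of T) ⟶ S} (g : R →+* T) (w : Spec.map (CommRingCat.ofHom g) ≫ sR = sT) :
    Over.mk sT ⟶ Over.mk sR :=
  Over.homMk (Spec.map (CommRingCat.ofHom g)) w

theorem sm_w {R T U : Type u} [CommRing R] [CommRing T] [CommRing U] {sR : Spec (.of R) ⟶ S}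
    {sT : Spec (.of T) ⟶ S} {sU : Spec (.of U) ⟶ S} {g : R →+* T} {h : T →+* U}
    (w : Spec.map (CommRingCat.ofHom g) ≫ sR = sT) (w' : Spec.map (CommRingCat.ofHom h) ≫ sT = sU) :
    Spec.map (CommRingCat.ofHom (h.comp g)) ≫ sR = sU := by
  rw [CommRingCat.ofHom_comp, Spec.map_comp, Category.assoc, w, w']

theorem sm_ext {R T T' U : Type u} [CommRing R] [CommRing T] [CommRing T'] [CommRing U]
    {sR : Spec (.of R) ⟶ S} {sT : Spec (.of T) ⟶ S} {sT' : Spec (.of T') ⟶ S}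
    {sU : Spec (.of U) ⟶ S} {g : R →+* T} {g' : R →+* T'} {h : T →+* U} {h' : T' →+* U}
    (w : Spec.map (CommRingCat.ofHom g) ≫ sR = sT) (w' : Spec.map (CommRingCat.ofHom g') ≫ sR = sT')
    (v : Spec.map (CommRingCat.ofHom h) ≫ sT = sU) (v' : Spec.map (CommRingCat.ofHom h') ≫ sT' = sU)
    (e : h.comp g = h'.comp g') : sm h v ≫ sm g w = sm h' v' ≫ sm g' w' :=
  Over.OverMorphism.ext (by
    show Spec.map _ ≫ Spec.map _ = Spec.map _ ≫ Spec.map _
    rw [← Spec.map_comp, ← Spec.map_comp, ← CommRingCat.ofHom_comp, ← CommRingCat.ofHom_comp, e])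

theorem exists_sm {R T : Type u} [CommRing R] [CommRing T] {sR : Spec (.of R) ⟶ S}
    {sT : Spec (.of T) ⟶ S} (φ : Over.mk sT ⟶ Over.mk sR) : ∃ g w, φ = sm g w := by
  obtain ⟨g, hg⟩ := Spec.map_surjective φ.left
  exact ⟨g.hom, by rw [CommRingCat.ofHom_hom, hg]; exact Over.w φ,
    Over.OverMorphism.ext (by simp [sm, hg])⟩

/-- Affine schemes over `S` are spectra. -/
theorem exists_spec_iso (U : Over S) [IsAffine U.left] :
    ∃ (R : CommRingCat.{u}) (str : Spec R ⟶ S), Nonempty (Over.mk str ≅ U) :=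
  ⟨Γ(U.left, ⊤), U.left.isoSpec.inv ≫ U.hom, ⟨Over.isoMk U.left.isoSpec.symm rfl⟩⟩

/-- A chart through the image of the closed point gives a factorization of the bottom arrow after a
dominating extension. -/
theorem exists_chart_lift_of_chart {F G : Sp S} {f : F ⟶ G} (sq : ValSq f) {R₀ : CommRingCat.{u}}
    {str₀ : Spec R₀ ⟶ S} {U₀ U'' : Over S} (i : Over.mk str₀ ≅ U₀) {q : (yon S).obj U₀ ⟶ G}
    (hq : RepWith @Etale q) {a : U'' ⟶ U₀} {e' : U'' ⟶ sq.ptA}
    (sqU : IsPullback ((yon S).map a) ((yon S).map e') q sq.bot) (z : U''.left)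
    (hz : e'.left z = closedPoint sq.A) :
    ∃ (q₀ : (yon S).obj (Over.mk str₀) ⟶ G) (e : sq.DomExt) (g₀ : R₀ →+* e.A')
      (w : Spec.map (CommRingCat.ofHom g₀) ≫ str₀ = Spec.map (CommRingCat.ofHom e.φ) ≫ sq.str),
      RepWith @Etale q₀ ∧
        (yon S).map (sm g₀ w) ≫ q₀ = (yon S).map (sm e.φ rfl : e.ptA' ⟶ sq.ptA) ≫ sq.bot := by
  have : Etale e'.left := repWith_property hq sqU
  let η : sq.ptA.left := sq.j.left (closedPoint sq.K)
  obtain ⟨z₀, hz₀, hz₀η⟩ := (Flat.generalizingMap e'.left) (a := z) (b := η)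
    (by rw [hz]; exact specializes_algebraMap _)
  obtain ⟨sqv, κ, β, hκ, hκu, hβ, hβy⟩ := exists_valSq (π := 𝟙 ((yon S).obj U''))
    (q := (yon S).map (𝟙 U'')) (m := 𝟙 U'') (Category.comp_id _) z₀ z hz₀
  have hκβ : κ = sqv.j ≫ β := (yon S).map_injective (by
    have := sqv.comm
    rw [← hκ, ← hβ, Category.comp_id, (yon S).map_id, Category.comp_id] at this
    rw [this, Functor.map_comp])
  obtain ⟨φ, hφ⟩ := Spec.map_surjective (β.left ≫ e'.left)
  have hloc : IsLocalHom φ.hom := (isLocalHom_iff_comap_closedPoint φ.hom).2 (by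
    show Spec.map φ (closedPoint sqv.A) = closedPoint sq.A
    rw [hφ, Scheme.Hom.comp_apply, hβy, hz])
  let ρ : sq.A →+* sqv.K := (algebraMap sqv.A sqv.K).comp φ.hom
  have hρ : Spec.map (CommRingCat.ofHom ρ) (closedPoint sqv.K) = η := by
    rw [CommRingCat.ofHom_comp, Spec.map_comp, CommRingCat.ofHom_hom, hφ, ← hz₀η,
      ← hκu (closedPoint sqv.K), hκβ]
    rfl
  have hinj : Function.Injective ρ := (injective_iff_map_eq_zero _).2 fun x hx => by
    have h0 : x ∈ η.asIdeal := by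
      rw [← hρ]
      show ρ x ∈ (closedPoint sqv.K).asIdeal
      rw [hx]
      exact zero_mem _
    change algebraMap sq.A sq.K x ∈ maximalIdeal sq.K at h0
    rw [maximalIdeal_eq_bot, Ideal.mem_bot] at h0
    exact IsFractionRing.injective sq.A sq.K (h0.trans (map_zero _).symm)
  let e : sq.DomExt :=
    { A' := sqv.A, K' := sqv.K, φ := φ.hom, ψ := IsFractionRing.lift hinj
      comm := RingHom.ext fun x => (IsFractionRing.lift_algebraMap hinj x).symm
      isLocalHom := hloc }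
  let β' : e.ptA' ⟶ U'' := Over.homMk β.left (by
    show β.left ≫ U''.hom = Spec.map (CommRingCat.ofHom φ.hom) ≫ sq.str
    rw [CommRingCat.ofHom_hom, hφ, Category.assoc]
    exact congrArg (β.left ≫ ·) (Over.w e').symm)
  have hβ' : β' ≫ e' = (sm e.φ rfl : e.ptA' ⟶ sq.ptA) := Over.OverMorphism.ext hφ.symm
  obtain ⟨g₀, w, hg⟩ := exists_sm (β' ≫ a ≫ i.inv)
  refine ⟨(yon S).map i.hom ≫ q, e, g₀, w,
    repWith_yon_map_comp (P := @Etale) ?_ hq, ?_⟩
  · haveI : IsIso i.hom.left := inferInstanceAs (IsIso ((Over.forget S).map i.hom))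
    infer_instance
  · rw [← hg, ← Functor.map_comp_assoc, ← hβ', Category.assoc, Category.assoc, i.inv_hom_id,
      Category.comp_id, Functor.map_comp_assoc, sqU.w, ← Functor.map_comp_assoc]

/-- After a dominating extension the bottom arrow of a valuative square factors through an affine
chart. -/
theorem exists_chart_lift {F G : Sp S} (hG : IsAlgSpace G) {f : F ⟶ G} (sq : ValSq f) :
    ∃ (R₀ : CommRingCat.{u}) (str₀ : Spec R₀ ⟶ S) (q₀ : (yon S).obj (Over.mk str₀) ⟶ G)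
      (e : sq.DomExt) (g₀ : R₀ →+* e.A')
      (w : Spec.map (CommRingCat.ofHom g₀) ≫ str₀ = Spec.map (CommRingCat.ofHom e.φ) ≫ sq.str),
      RepWith @Etale q₀ ∧
        (yon S).map (sm g₀ w) ≫ q₀ = (yon S).map (sm e.φ rfl : e.ptA' ⟶ sq.ptA) ≫ sq.bot := by
  obtain ⟨U₀, U'', q, a, e', hU, hq, sqU, z, hz⟩ := exists_affine_chart hG sq.bot (closedPoint sq.A)
  obtain ⟨R₀, str₀, ⟨i⟩⟩ := exists_spec_iso U₀
  exact ⟨R₀, str₀, exists_chart_lift_of_chart sq i hq sqU z hz⟩

/-- For a locally Noetherian target the chart may be taken Noetherian. -/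
theorem exists_chart_lift_noetherian {F G : Sp S} (hG : IsAlgSpace G) (hN : IsLocNoethSp G)
    {f : F ⟶ G} (sq : ValSq f) :
    ∃ (R₀ : CommRingCat.{u}) (str₀ : Spec R₀ ⟶ S) (q₀ : (yon S).obj (Over.mk str₀) ⟶ G)
      (e : sq.DomExt) (g₀ : R₀ →+* e.A')
      (w : Spec.map (CommRingCat.ofHom g₀) ≫ str₀ = Spec.map (CommRingCat.ofHom e.φ) ≫ sq.str),
      IsNoetherianRing R₀ ∧ RepWith @Etale q₀ ∧
        (yon S).map (sm g₀ w) ≫ q₀ = (yon S).map (sm e.φ rfl : e.ptA' ⟶ sq.ptA) ≫ sq.bot := by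
  obtain ⟨V, p, hp, hps, hV⟩ := hN
  haveI : IsLocallyNoetherian V.left := hV
  obtain ⟨W, w, e', sqW⟩ := exists_isPullback_yon hG.diag p sq.bot
  obtain ⟨z, hz⟩ := (repWith_property hps sqW).surj (closedPoint sq.A)
  obtain ⟨O, hO, hzO, -⟩ := exists_isAffineOpen_mem_and_subset (x := w.left z) (U := ⊤) trivial
  let U : Over S := Over.mk (O.ι ≫ V.hom)
  let ι : U ⟶ V := Over.homMk O.ι rfl
  haveI : IsAffine U.left := hO
  have hι : Etale ι.left := inferInstanceAs (Etale O.ι)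
  have sqU := IsPullback.of_hasPullback ι w
  obtain ⟨z', -, hz'⟩ := exists_preimage_left sqU (⟨w.left z, hzO⟩ : U.left) z rfl
  have sqU' : IsPullback ((yon S).map (pullback.fst ι w)) ((yon S).map (pullback.snd ι w ≫ e'))
      ((yon S).map ι ≫ p) sq.bot := by
    rw [Functor.map_comp]
    exact (isPullback_yon sqU).paste_vert sqW
  let i : Over.mk (U.left.isoSpec.inv ≫ U.hom) ≅ U := Over.isoMk U.left.isoSpec.symm rfl
  obtain ⟨q₀, e, g₀, w₀, h₁, h₂⟩ := exists_chart_lift_of_chart sq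
    (R₀ := Γ(U.left, ⊤)) i (repWith_yon_map_comp (P := @Etale) hι hp) sqU' z'
    (by rw [Over.comp_left, Scheme.Hom.comp_apply, hz', hz])
  haveI : IsLocallyNoetherian U.left := isLocallyNoetherian_of_isOpenImmersion O.ι
  exact ⟨Γ(U.left, ⊤), _, q₀, e, g₀, w₀,
    IsLocallyNoetherian.component_noetherian ⟨⊤, isAffineOpen_top _⟩, h₁, h₂⟩

end Groth.Agent.Lib.AlgSpVal
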