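import Mathlib.RingTheory.Valuation.ValuationSubring
import Mathlib.RingTheory.Valuation.LocalSubring
import Mathlib.RingTheory.LocalRing.ResidueField.Basic

/-!
# Composite valuation rings and their extensions
-/

set_option autoImplicit false

universe u

open IsLocalRing

namespace Groth.Agent.Lib.AlgSpVal

variable {L : Type u} [Field L] (B : ValuationSubring L) (A : ValuationSubring (ResidueField B))

/-- The valuation ring composed of a valuation ring and one of its residue field. -/
def compVal : ValuationSubring L :=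
  ValuationSubring.ofSubring ((A.toSubring.comap (residue B)).map B.subtype) fun x => by
    rcases B.mem_or_inv_mem x with hx | hx
    · rcases A.mem_or_inv_mem (residue B ⟨x, hx⟩) with h | h
      · exact Or.inl ⟨⟨x, hx⟩, h, rfl⟩
      · by_cases h0 : residue B ⟨x, hx⟩ = 0
        · exact Or.inl ⟨⟨x, hx⟩, by simp [h0], rfl⟩
        · obtain ⟨v, hv⟩ := (residue_ne_zero_iff_isUnit _).1 h0
          have hv' : ((↑v⁻¹ : B) : L) = x⁻¹ := by
            refine eq_inv_of_mul_eq_one_left ?_
            have := congrArg Subtype.val v.inv_mul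
            rwa [hv] at this
          refine Or.inr ⟨↑v⁻¹, ?_, hv'⟩
          show residue B ↑v⁻¹ ∈ A
          rwa [map_units_inv, hv]
    · by_cases h0 : residue B ⟨x⁻¹, hx⟩ = 0
      · exact Or.inr ⟨⟨x⁻¹, hx⟩, by simp [h0], rfl⟩
      · obtain ⟨v, hv⟩ := (residue_ne_zero_iff_isUnit _).1 h0
        have hv' : ((↑v⁻¹ : B) : L) = x := by
          rw [← inv_inv x]
          refine eq_inv_of_mul_eq_one_left ?_
          have := congrArg Subtype.val v.inv_mul
          rwa [hv] at this
        rcases A.mem_or_inv_mem (residue B ⟨x⁻¹, hx⟩) with h | h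
        · exact Or.inr ⟨⟨x⁻¹, hx⟩, h, rfl⟩
        · refine Or.inl ⟨↑v⁻¹, ?_, hv'⟩
          show residue B ↑v⁻¹ ∈ A
          rwa [map_units_inv, hv]

theorem mem_compVal {x : L} : x ∈ compVal B A ↔ ∃ h : x ∈ B, residue B ⟨x, h⟩ ∈ A :=
  ⟨fun ⟨b, hb, e⟩ => e ▸ ⟨b.2, hb⟩, fun ⟨h, hA⟩ => ⟨⟨x, h⟩, hA, rfl⟩⟩

theorem compVal_le : compVal B A ≤ B := fun _ h => ((mem_compVal B A).1 h).1

/-- The projection of the composite valuation ring to the second one. -/
noncomputable def compRes : compVal B A →+* A :=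
  ((residue B).comp (ValuationSubring.inclusion _ _ (compVal_le B A))).codRestrict A.toSubring
    fun x => ((mem_compVal B A).1 x.2).2

theorem coe_compRes (x : compVal B A) :
    ((compRes B A x : A) : ResidueField B) =
      residue B (ValuationSubring.inclusion _ _ (compVal_le B A) x) := rfl

theorem compRes_surjective : Function.Surjective (compRes B A) := fun a => by
  obtain ⟨b, hb⟩ := residue_surjective (a : ResidueField B)
  exact ⟨⟨b, (mem_compVal B A).2 ⟨b.2, by simp [hb]⟩⟩, Subtype.ext hb⟩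

/-- An extension of a composite valuation ring decomposes. -/
theorem exists_split {C' L' : Type u} [CommRing C'] [IsDomain C'] [ValuationRing C'] [Field L']
    [Algebra C' L'] [IsFractionRing C' L'] (φ : compVal B A →+* C') (ψ : L →+* L')
    (comm : (algebraMap C' L').comp φ = ψ.comp (compVal B A).subtype) [IsLocalHom φ] :
    ∃ (B' : ValuationSubring L') (φB : B →+* B') (χ : C' →+* B')
      (A' : ValuationSubring (ResidueField B')) (ρ : C' →+* A') (α : A →+* A')
      (_ : IsLocalHom φB),
      B'.subtype.comp φB = ψ.comp B.subtype ∧ B'.subtype.comp χ = algebraMap C' L' ∧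
      A'.subtype.comp ρ = (residue B').comp χ ∧
      A'.subtype.comp α = (ResidueField.map φB).comp A.subtype ∧
      ρ.comp φ = α.comp (compRes B A) ∧
      χ.comp φ = φB.comp (ValuationSubring.inclusion _ _ (compVal_le B A)) ∧
      IsLocalHom α := by
  set ι := algebraMap C' L'
  set incl := ValuationSubring.inclusion _ _ (compVal_le B A)
  have hι : ∀ s, ι (φ s) = ψ (s : L) := fun s => RingHom.congr_fun comm s
  have key : ∀ x : L', (∃ c, ι c = x) ∨ ∃ c, ι c = x⁻¹ := fun x =>
    (ValuationRing.isInteger_or_isInteger C' x).imp (fun ⟨c, h⟩ => ⟨c, h⟩) fun ⟨c, h⟩ => ⟨c, h⟩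
  let R : Subring L' :=
    { carrier := {x | ∃ s : compVal B A, IsUnit (incl s) ∧ ∃ c, ι c = x * ψ (s : L)}
      one_mem' := ⟨1, by simp [incl], 1, by simp⟩
      zero_mem' := ⟨1, by simp [incl], 0, by simp⟩
      neg_mem' := fun ⟨s, hs, c, hc⟩ => ⟨s, hs, -c, by simp [hc]⟩
      mul_mem' := fun {x y} ⟨s, hs, c, hc⟩ ⟨t, ht, d, hd⟩ =>
        ⟨s * t, by rw [map_mul]; exact hs.mul ht, c * d, by
          rw [map_mul, hc, hd, MulMemClass.coe_mul, map_mul]; ring⟩
      add_mem' := fun {x y} ⟨s, hs, c, hc⟩ ⟨t, ht, d, hd⟩ =>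
        ⟨s * t, by rw [map_mul]; exact hs.mul ht, c * φ t + d * φ s, by
          rw [map_add, map_mul, map_mul, hι, hι, hc, hd, MulMemClass.coe_mul, map_mul]; ring⟩ }
  have hR : ∀ c, ι c ∈ R := fun c => ⟨1, by simp [incl], c, by simp⟩
  let B' : ValuationSubring L' := ValuationSubring.ofSubring R fun x =>
    (key x).imp (fun ⟨c, h⟩ => h ▸ hR c) fun ⟨c, h⟩ => h ▸ hR c
  have hB : ∀ b : B, ψ (b : L) ∈ B' := fun b => by
    rcases (compVal B A).mem_or_inv_mem (b : L) with h | h
    · rw [show ψ (b : L) = ι (φ ⟨_, h⟩) from (hι ⟨_, h⟩).symm]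
      exact hR _
    · rcases eq_or_ne (b : L) 0 with h0 | h0
      · rw [h0, map_zero]
        exact B'.zero_mem
      · refine ⟨⟨_, h⟩, .of_mul_eq_one b (Subtype.ext (inv_mul_cancel₀ h0)), 1, ?_⟩
        rw [map_one, ← map_mul, mul_inv_cancel₀ h0, map_one]
  let φB : B →+* B' := (ψ.comp B.subtype).codRestrict B'.toSubring hB
  let χ : C' →+* B' := ι.codRestrict B'.toSubring hR
  have hφB : IsLocalHom φB := ⟨fun b hu => by
    by_contra hb
    obtain ⟨v, hv⟩ := hu
    obtain ⟨s, hs, c, hc⟩ := ((↑v⁻¹ : B') : B').2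
    have hvL : ((↑v⁻¹ : B') : L') * ψ (b : L) = 1 := by
      have := congrArg Subtype.val v.inv_mul
      rwa [hv] at this
    obtain ⟨s', hs'⟩ := hs
    have hs0 : (s : L) ≠ 0 := fun h => s'.ne_zero (hs'.trans (Subtype.ext h))
    have hb0 : (b : L) ≠ 0 := fun h => by simp [h] at hvL
    -- the quotient `b / s` is a non-unit of the composite ring
    have hq : residue B (b * ↑s'⁻¹) = 0 :=
      (residue_eq_zero_iff _).2 (Ideal.mul_mem_right _ _ hb)
    let q : compVal B A :=
      ⟨_, (mem_compVal B A).2 ⟨(b * ↑s'⁻¹ : B).2, by rw [Subtype.coe_eta, hq]; exact A.zero_mem⟩⟩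
    have hqs : (q : L) * (s : L) = (b : L) := by
      have := congrArg Subtype.val (show b * ↑s'⁻¹ * incl s = b by
        rw [← hs', Units.inv_mul_cancel_right])
      exact this
    have h1 : ι (φ q * c) = 1 := by
      rw [map_mul, hι, hc, ← mul_assoc, mul_comm (ψ _), mul_assoc, ← map_mul, hqs, hvL]
    have hu : IsUnit q := (isUnit_map_iff φ _).1
      (.of_mul_eq_one c (IsFractionRing.injective C' L' (h1.trans (map_one ι).symm)))
    exact (residue_ne_zero_iff_isUnit _).2 (hu.map incl) hq⟩
  let T : Subring (ResidueField B') := ((residue B').comp χ).range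
  let A' : ValuationSubring (ResidueField B') := ValuationSubring.ofSubring T fun x => by
    obtain ⟨b, rfl⟩ := residue_surjective x
    by_cases h0 : residue B' b = 0
    · rw [h0]
      exact Or.inl T.zero_mem
    obtain ⟨v, rfl⟩ := (residue_ne_zero_iff_isUnit _).1 h0
    rcases key ((v : B') : L') with ⟨c, hc⟩ | ⟨c, hc⟩
    · exact Or.inl ⟨c, congrArg (residue B') (Subtype.ext hc)⟩
    · refine Or.inr ⟨c, ?_⟩
      rw [← map_units_inv]
      refine congrArg (residue B') (Subtype.ext (hc.trans ?_))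
      refine (eq_inv_of_mul_eq_one_left ?_).symm
      exact congrArg Subtype.val v.inv_mul
  let ρ : C' →+* A' := ((residue B').comp χ).rangeRestrict
  have hρ : IsLocalHom ρ := ⟨fun c hu => by
    obtain ⟨v, hv⟩ := hu
    obtain ⟨d, hd⟩ := ((↑v⁻¹ : A') : A').2
    by_contra hc
    have h1 : IsUnit (1 - c * d) := by
      by_contra h
      exact (maximalIdeal.isMaximal C').ne_top ((Ideal.eq_top_iff_one _).2 (by
        simpa using add_mem (Ideal.mul_mem_right d (maximalIdeal C') hc)
          (show 1 - c * d ∈ maximalIdeal C' from h)))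
    refine (residue_ne_zero_iff_isUnit _).2 (h1.map χ) ?_
    have := congrArg Subtype.val v.mul_inv
    rw [hv] at this
    rw [map_sub, map_sub, map_mul, map_mul, map_one, map_one]
    rw [show residue B' (χ d) = _ from hd]
    exact sub_eq_zero.2 this.symm⟩
  have hA : ∀ a : A, ResidueField.map φB (a : ResidueField B) ∈ A' := fun a => by
    obtain ⟨s, rfl⟩ := compRes_surjective B A a
    rw [coe_compRes, ResidueField.map_residue]
    exact ⟨φ s, congrArg (residue B') (Subtype.ext (hι s))⟩
  let α : A →+* A' := ((ResidueField.map φB).comp A.subtype).codRestrict A'.toSubring hA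
  have hcomp : ρ.comp φ = α.comp (compRes B A) := RingHom.ext fun s => Subtype.ext (by
    show residue B' (χ (φ s)) = ResidueField.map φB ((compRes B A s : A) : ResidueField B)
    rw [coe_compRes, ResidueField.map_residue]
    exact congrArg (residue B') (Subtype.ext (hι s)))
  refine ⟨B', φB, χ, A', ρ, α, hφB, rfl, rfl, rfl, rfl, hcomp,
    RingHom.ext fun s => Subtype.ext (hι s), ⟨fun a hu => ?_⟩⟩
  obtain ⟨s, rfl⟩ := compRes_surjective B A a
  rw [← RingHom.comp_apply, ← hcomp, RingHom.comp_apply] at hu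
  exact ((isUnit_map_iff φ s).1 ((isUnit_map_iff ρ _).1 hu)).map _

end Groth.Agent.Lib.AlgSpVal
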