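import Groth.Agent.Lib.DvrCrit.Algebra
import Mathlib.RingTheory.Valuation.LocalSubring
import Mathlib.RingTheory.FiniteType

/-!
# Obstructions to extending valuation rings are detected by discrete valuation rings
-/

set_option autoImplicit false

universe u

open IsLocalRing

namespace Groth.Agent.Lib.AlgSpVal

/-- Either a valuation ring dominating the given one contains the image of `γ`, or some finitely
many elements of the given one witness that there is none. -/
theorem exists_valuationRing_or_witness {K k R : Type u} [Field K] [Field k] [CommRing R]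
    (A : ValuationSubring K) (ψ : K →+* k) (γ : R →+* k) :
    (∃ (V : ValuationSubring k) (φ : A →+* V),
      IsLocalHom φ ∧ V.subtype.comp φ = ψ.comp A.subtype ∧ ∀ r, γ r ∈ V) ∨
    ∃ s : Finset K, (∀ a ∈ s, a ∈ A) ∧
      ∀ V : ValuationSubring k, (∀ a ∈ s, ψ a ∈ V) →
        (∀ a ∈ s, a ∈ A.nonunits → ψ a ∈ V.nonunits) → ∃ r, γ r ∉ V := by
  classical
  let C : Subring k := Subring.closure (ψ '' (A : Set K) ∪ Set.range γ)
  have hψC : ∀ a : A, ψ (a : K) ∈ C := fun a => Subring.subset_closure (Or.inl ⟨_, a.2, rfl⟩)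
  let φC : A →+* C := (ψ.comp A.subtype).codRestrict C hψC
  by_cases h : (maximalIdeal A).map φC = ⊤
  · right
    let T : Set K := {a | a ∈ A.nonunits}
    have h1 : (1 : C) ∈ (maximalIdeal A).map φC := h ▸ Submodule.mem_top
    -- elements of the extended ideal only involve finitely many elements of `A`
    have key : ∀ c ∈ C, ∃ s : Finset K, (∀ a ∈ s, a ∈ A) ∧
        c ∈ Subring.closure (ψ '' (s : Set K) ∪ Set.range γ) := by
      intro c hc
      refine Subring.closure_induction (fun x hx => ?_) ⟨∅, by simp, zero_mem _⟩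
        ⟨∅, by simp, one_mem _⟩ ?_ (fun x _ ⟨s, hs, hx⟩ => ⟨s, hs, neg_mem hx⟩) ?_ hc
      · rcases hx with ⟨a, ha, rfl⟩ | hx
        · exact ⟨{a}, by simpa using ha, Subring.subset_closure (Or.inl ⟨a, by simp, rfl⟩)⟩
        · exact ⟨∅, by simp, Subring.subset_closure (Or.inr hx)⟩
      all_goals
        rintro x y - - ⟨s, hs, hx⟩ ⟨t, ht, hy⟩
        have hx' : x ∈ Subring.closure (ψ '' ((s ∪ t : Finset K) : Set K) ∪ Set.range γ) :=
          Subring.closure_mono (Set.union_subset_union_left _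
            (Set.image_mono (Finset.coe_subset.2 Finset.subset_union_left))) hx
        have hy' : y ∈ Subring.closure (ψ '' ((s ∪ t : Finset K) : Set K) ∪ Set.range γ) :=
          Subring.closure_mono (Set.union_subset_union_left _
            (Set.image_mono (Finset.coe_subset.2 Finset.subset_union_right))) hy
        refine ⟨s ∪ t, fun a ha => (Finset.mem_union.1 ha).elim (hs a) (ht a), ?_⟩
      · exact add_mem hx' hy'
      · exact mul_mem hx' hy'
    have key' : ∀ x ∈ (maximalIdeal A).map φC, ∃ s : Finset K, (∀ a ∈ s, a ∈ A) ∧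
        ∀ V : ValuationSubring k, (∀ a ∈ s, ψ a ∈ V) →
          (∀ a ∈ s, a ∈ A.nonunits → ψ a ∈ V.nonunits) → (∀ r, γ r ∈ V) →
            ∃ hx : (x : k) ∈ V, (⟨x, hx⟩ : V) ∈ maximalIdeal V := by
      intro x hx
      induction hx using Submodule.span_induction with
      | mem x hx =>
        obtain ⟨a, ha, rfl⟩ := hx
        refine ⟨{(a : K)}, by simp, fun V hV hVn _ => ⟨hV a (by simp), ?_⟩⟩
        refine (V.coe_mem_nonunits_iff).1 ?_
        exact hVn a (by simp) (A.coe_mem_nonunits_iff.2 ha)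
      | zero => exact ⟨∅, by simp, fun V _ _ _ => ⟨V.zero_mem, Ideal.zero_mem _⟩⟩
      | add x y _ _ hx hy =>
        obtain ⟨s, hs, hx⟩ := hx
        obtain ⟨t, ht, hy⟩ := hy
        refine ⟨s ∪ t, fun a ha => (Finset.mem_union.1 ha).elim (hs a) (ht a),
          fun V hV hVn hγ => ?_⟩
        obtain ⟨h₁, h₁'⟩ := hx V (fun a ha => hV a (Finset.mem_union_left _ ha))
          (fun a ha => hVn a (Finset.mem_union_left _ ha)) hγ
        obtain ⟨h₂, h₂'⟩ := hy V (fun a ha => hV a (Finset.mem_union_right _ ha))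
          (fun a ha => hVn a (Finset.mem_union_right _ ha)) hγ
        exact ⟨V.add_mem _ _ h₁ h₂, Ideal.add_mem _ h₁' h₂'⟩
      | smul c x _ hx =>
        obtain ⟨s, hs, hx⟩ := hx
        obtain ⟨t, ht, hc⟩ := key c c.2
        refine ⟨s ∪ t, fun a ha => (Finset.mem_union.1 ha).elim (hs a) (ht a),
          fun V hV hVn hγ => ?_⟩
        obtain ⟨h₁, h₁'⟩ := hx V (fun a ha => hV a (Finset.mem_union_left _ ha))
          (fun a ha => hVn a (Finset.mem_union_left _ ha)) hγ
        have hcV : (c : k) ∈ V.toSubring := by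
          refine (Subring.closure_le.2 ?_) hc
          rintro y (⟨a, ha, rfl⟩ | ⟨r, rfl⟩)
          · exact hV a (Finset.mem_union_right _ ha)
          · exact hγ r
        exact ⟨V.mul_mem _ _ hcV h₁, Ideal.mul_mem_left _ (⟨c, hcV⟩ : V) h₁'⟩
    obtain ⟨s, hs, hV⟩ := key' 1 h1
    refine ⟨s, hs, fun V h₁ h₂ => ?_⟩
    by_contra hc
    push Not at hc
    obtain ⟨_, h₃⟩ := hV V h₁ h₂ hc
    exact (maximalIdeal.isMaximal V).ne_top ((Ideal.eq_top_iff_one _).2 h₃)
  · left
    obtain ⟨P, hP, hle⟩ := Ideal.exists_le_maximal _ h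
    haveI := hP.isPrime
    let fl : Localization.AtPrime P →+* Localization.AtPrime P := RingHom.id _
    have hu : ∀ y : P.primeCompl, IsUnit (C.subtype y) := fun y =>
      isUnit_iff_ne_zero.2 fun h0 => y.2 (by
        rw [show (y : C) = 0 from Subtype.ext h0]; exact P.zero_mem)
    obtain ⟨V, hV, hVl⟩ :=
      exists_factor_valuationRing (IsLocalization.lift hu : Localization.AtPrime P →+* k)
    have hC : ∀ c : C, (c : k) ∈ V := fun c => by
      have := hV (algebraMap C (Localization.AtPrime P) c)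
      rwa [IsLocalization.lift_eq] at this
    let φ : A →+* V := ((ψ.comp A.subtype).codRestrict V.toSubring fun a => hC (φC a))
    refine ⟨V, φ, ⟨fun a hu' => ?_⟩, rfl, fun r => hC ⟨γ r, Subring.subset_closure (Or.inr ⟨r, rfl⟩)⟩⟩
    by_contra ha
    have h1 : IsUnit (algebraMap C (Localization.AtPrime P) (φC a)) := by
      refine hVl.map_nonunit _ ?_
      have e : (IsLocalization.lift hu : Localization.AtPrime P →+* k).codRestrict V.toSubring hV
          (algebraMap C (Localization.AtPrime P) (φC a)) = φ a :=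
        Subtype.ext (IsLocalization.lift_eq hu _)
      rwa [e]
    exact (IsLocalization.AtPrime.isUnit_to_map_iff (Localization.AtPrime P) P _).1 h1
      (hle (Ideal.mem_map_of_mem _ ha))

/-- A valuation ring without extension containing given images may be replaced by a discrete
valuation ring of a finitely generated subfield. -/
theorem exists_dvr_obstruction {K R₀ Z R : Type u} [Field K] [CommRing R₀] [IsNoetherianRing R₀]
    [CommRing Z] [CommRing R] (A : ValuationSubring K) (g₀ : R₀ →+* A) {ι : Type u} [Finite ι]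
    [Nonempty ι] (k : ι → Type u) [∀ i, Field (k i)] (ψ : ∀ i, K →+* k i) (γ : ∀ i, R →+* k i)
    (μ : R₀ →+* Z) (hμ : μ.FiniteType) (δ : Z →+* K) (hδ : δ.comp μ = A.subtype.comp g₀)
    (H : ∀ i (V : ValuationSubring (k i)) (φ : A →+* V), IsLocalHom φ →
      V.subtype.comp φ = (ψ i).comp A.subtype → ∃ r, γ i r ∉ V) :
    ∃ (L : Subfield K) (W : ValuationSubring L) (gW : R₀ →+* W) (δL : Z →+* L),
      IsDiscreteValuationRing W ∧ L.subtype.comp δL = δ ∧ W.subtype.comp gW = δL.comp μ ∧
      ∀ i (V : ValuationSubring (k i)) (φ : W →+* V), IsLocalHom φ →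
        V.subtype.comp φ = ((ψ i).comp L.subtype).comp W.subtype → ∃ r, γ i r ∉ V := by
  classical
  haveI := Fintype.ofFinite ι
  have hw : ∀ i, ∃ s : Finset K, (∀ a ∈ s, a ∈ A) ∧
      ∀ V : ValuationSubring (k i), (∀ a ∈ s, ψ i a ∈ V) →
        (∀ a ∈ s, a ∈ A.nonunits → ψ i a ∈ V.nonunits) → ∃ r, γ i r ∉ V := fun i => by
    rcases exists_valuationRing_or_witness A (ψ i) (γ i) with ⟨V, φ, h₁, h₂, h₃⟩ | h
    · obtain ⟨r, hr⟩ := H i V φ h₁ h₂
      exact absurd (h₃ r) hr
    · exact h
  choose s hsA hs using hw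
  let T : Finset K := Finset.univ.biUnion s
  have hTA : ∀ a : ↥T, (a : K) ∈ A := fun a => by
    obtain ⟨i, -, hi⟩ := Finset.mem_biUnion.1 a.2
    exact hsA i _ hi
  algebraize [μ]
  obtain ⟨G, hG⟩ := ‹Algebra.FiniteType R₀ Z›.out
  let L : Subfield K := Subfield.closure (Set.range δ ∪ (T : Set K))
  have hδL : ∀ z, δ z ∈ L := fun z => Subfield.subset_closure (Or.inl ⟨z, rfl⟩)
  have hTL : ∀ a : ↥T, (a : K) ∈ L := fun a => Subfield.subset_closure (Or.inr a.2)
  let δL : Z →+* L := δ.codRestrict L hδL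
  let φ : MvPolynomial ↥T R₀ →+* L :=
    MvPolynomial.eval₂Hom (δL.comp μ) fun a => ⟨(a : K), hTL a⟩
  have hφC : ∀ r, φ (MvPolynomial.C r) = δL (μ r) := fun r => by simp [φ]
  have hφX : ∀ a, φ (MvPolynomial.X a) = ⟨(a : K), hTL a⟩ := fun a => by simp [φ]
  have hφA : ∀ b, ((φ b : L) : K) ∈ A := fun b => by
    induction b using MvPolynomial.induction_on with
    | C r =>
      rw [hφC, show ((δL (μ r) : L) : K) = (g₀ r : K) from RingHom.congr_fun hδ r]
      exact (g₀ r).2
    | add p q hp hq => rw [map_add]; exact A.add_mem _ _ hp hq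
    | mul_X p a hp => rw [map_mul, hφX]; exact A.mul_mem _ _ hp (hTA a)
  let φA : MvPolynomial ↥T R₀ →+* A := (L.subtype.comp φ).codRestrict A.toSubring hφA
  let q : Ideal (MvPolynomial ↥T R₀) := (maximalIdeal A).comap φA
  have hq : RingHom.ker φ < q := by
    refine lt_of_le_of_ne (fun b hb => ?_) fun e => ?_
    · show φA b ∈ maximalIdeal A
      rw [show φA b = 0 from Subtype.ext (by
        show ((φ b : L) : K) = 0
        rw [RingHom.mem_ker.1 hb]; rfl)]
      exact Ideal.zero_mem _
    · -- all witnesses in the maximal ideal vanish, so there is no obstruction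
      obtain ⟨i⟩ := ‹Nonempty ι›
      obtain ⟨r, hr⟩ := hs i ⊤ (fun a _ => trivial) fun a ha han => by
        have haA : (⟨a, hsA i a ha⟩ : A) ∈ maximalIdeal A := A.coe_mem_nonunits_iff.1 han
        have hq' : MvPolynomial.X ⟨a, Finset.mem_biUnion.2 ⟨i, Finset.mem_univ _, ha⟩⟩ ∈ q := by
          show φA _ ∈ maximalIdeal A
          convert haA using 1
          exact Subtype.ext (congrArg (fun x : L => (x : K)) (hφX _))
        rw [← e, RingHom.mem_ker, hφX] at hq'
        rw [show a = 0 from congrArg Subtype.val hq', map_zero]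
        exact (ValuationSubring.mem_nonunits_iff_or _).2 (Or.inl rfl)
      exact hr trivial
  let gens : Finset L := G.image δL
  have hgens : Subfield.closure (Set.range φ ∪ (gens : Set L)) = ⊤ := by
    refine eq_top_iff.2 fun x _ => ?_
    let N : Subfield L := Subfield.closure (Set.range φ ∪ (gens : Set L))
    have hZ : ∀ z, δL z ∈ N := fun z => by
      have hz : z ∈ Algebra.adjoin R₀ (G : Set Z) := hG ▸ trivial
      induction hz using Algebra.adjoin_induction with
      | mem z hz => exact Subfield.subset_closure (Or.inr (Finset.mem_image_of_mem _ hz))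
      | algebraMap r => exact Subfield.subset_closure (Or.inl ⟨_, hφC r⟩)
      | add a b _ _ ha hb => rw [map_add]; exact add_mem ha hb
      | mul a b _ _ ha hb => rw [map_mul]; exact mul_mem ha hb
    have hle : L ≤ N.map L.subtype := by
      refine Subfield.closure_le.2 ?_
      rintro y (⟨z, rfl⟩ | hy)
      · exact ⟨δL z, hZ z, rfl⟩
      · exact ⟨_, Subfield.subset_closure (Or.inl ⟨_, hφX ⟨y, hy⟩⟩), rfl⟩
    obtain ⟨y, hy, hyx⟩ := hle x.2
    rwa [← show y = x from Subtype.ext hyx]
  obtain ⟨W, hW, hmem, hcomap⟩ := DvrCrit.exists_dvr φ gens hgens q hq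
  let gW : R₀ →+* W :=
    (δL.comp μ).codRestrict W.toSubring fun r => hφC r ▸ hmem (MvPolynomial.C r)
  refine ⟨L, W, gW, δL, hW, rfl, rfl, fun i V φV hloc hcomp => ?_⟩
  have hX : ∀ a (ha : a ∈ T), ∃ w : W, ((w : L) : K) = a ∧
      w = φ.codRestrict W.toSubring hmem (MvPolynomial.X ⟨a, ha⟩) := fun a ha =>
    ⟨_, congrArg Subtype.val (hφX ⟨a, ha⟩), rfl⟩
  refine hs i V (fun a ha => ?_) fun a ha han => ?_
  · obtain ⟨w, hw, -⟩ := hX a (Finset.mem_biUnion.2 ⟨i, Finset.mem_univ _, ha⟩)
    rw [← hw, show ψ i ((w : L) : K) = (φV w : k i) from (RingHom.congr_fun hcomp w).symm]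
    exact (φV w).2
  · obtain ⟨w, hw, hw'⟩ := hX a (Finset.mem_biUnion.2 ⟨i, Finset.mem_univ _, ha⟩)
    have haA : (⟨a, hsA i a ha⟩ : A) ∈ maximalIdeal A := A.coe_mem_nonunits_iff.1 han
    have hwm : w ∈ maximalIdeal W := by
      rw [hw', ← Ideal.mem_comap, hcomap]
      show φA _ ∈ maximalIdeal A
      convert haA using 1
      exact Subtype.ext (congrArg (fun x : L => (x : K)) (hφX _))
    rw [← hw, show ψ i ((w : L) : K) = (φV w : k i) from (RingHom.congr_fun hcomp w).symm]
    exact V.coe_mem_nonunits_iff.2 fun hu => hwm (hloc.map_nonunit _ hu)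

end Groth.Agent.Lib.AlgSpVal
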