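import Groth.Agent.Lib.AlgSpVal.DvrExist
import Groth.Agent.Lib.AlgSpVal.Closed
import Groth.Agent.Lib.DvrCrit.Algebra
import Groth.Agent.H48.DomVal
import Groth.Agent.S10053

/-!
# Closedness from lifts over discrete valuation rings

No separation hypothesis: over a locally Noetherian test scheme the image of a closed set is
constructible, and stable under specialization because specializations are seen by discrete
valuation rings with finitely generated fraction fields.
-/

set_option autoImplicit false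
set_option linter.style.haveILetI false

universe u

open CategoryTheory CategoryTheory.Limits AlgebraicGeometry IsLocalRing
open AlgSp Groth.Agent.Lib.AlgSpace Groth.Agent.Lib.AlgSpMor

namespace Groth.Agent.Lib.AlgSpVal.DvrClosed

/-- A discrete valuation ring of a residue field of a finite type algebra, centred at a given
prime of the base. -/
theorem exists_dvr_centred {A C : Type u} [CommRing A] [IsNoetherianRing A] [CommRing C]
    (μ : A →+* C) (hμ : μ.FiniteType) (p : Ideal C) [p.IsPrime] (q : Ideal A) [q.IsPrime]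
    (hlt : p.comap μ < q) :
    ∃ W : ValuationSubring p.ResidueField, IsDiscreteValuationRing W ∧ ∃ g : A →+* W,
      W.subtype.comp g = (algebraMap C p.ResidueField).comp μ ∧ (maximalIdeal W).comap g = q := by
  classical
  letI : Algebra A C := μ.toAlgebra
  haveI : Algebra.FiniteType A C := hμ
  obtain ⟨G, hG⟩ := ‹Algebra.FiniteType A C›.out
  let φ : A →+* p.ResidueField := (algebraMap C p.ResidueField).comp μ
  let s : Finset p.ResidueField := G.image (algebraMap C p.ResidueField)
  have hs : Subfield.closure (Set.range φ ∪ (s : Set p.ResidueField)) = ⊤ := by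
    refine eq_top_iff.2 fun x _ => ?_
    let N := Subfield.closure (Set.range φ ∪ (s : Set p.ResidueField))
    have hZ : ∀ z, algebraMap C p.ResidueField z ∈ N := fun z => by
      have hz : z ∈ Algebra.adjoin A (G : Set C) := hG ▸ trivial
      induction hz using Algebra.adjoin_induction with
      | mem z hz => exact Subfield.subset_closure (Or.inr (Finset.mem_image_of_mem _ hz))
      | algebraMap r => exact Subfield.subset_closure (Or.inl ⟨r, rfl⟩)
      | add a b _ _ ha hb => rw [map_add]; exact add_mem ha hb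
      | mul a b _ _ ha hb => rw [map_mul]; exact mul_mem ha hb
    obtain ⟨a, b, -, rfl⟩ := IsFractionRing.div_surjective (A := C ⧸ p) x
    obtain ⟨a, rfl⟩ := Ideal.Quotient.mk_surjective a
    obtain ⟨b, rfl⟩ := Ideal.Quotient.mk_surjective b
    exact div_mem (hZ a) (hZ b)
  have hker : RingHom.ker φ = p.comap μ := by
    rw [← RingHom.comap_ker, Ideal.ker_algebraMap_residueField]
  obtain ⟨W, hW, hmem, hcomap⟩ := DvrCrit.exists_dvr φ s hs q (hker ▸ hlt)
  exact ⟨W, hW, φ.codRestrict W.toSubring hmem, rfl, hcomap⟩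

variable {S : Scheme.{u}}

/-- Images of closed sets in a Noetherian affine scheme are closed if squares over discrete
valuation rings lift after extension. -/
theorem isClosed_image {A C : Type u} [CommRing A] [IsNoetherianRing A] [CommRing C]
    {sA : Spec (CommRingCat.of A) ⟶ S} {sC : Spec (CommRingCat.of C) ⟶ S} {P : Sp S}
    {π : P ⟶ (yon S).obj (Over.mk sA)} {q : (yon S).obj (Over.mk sC) ⟶ P}
    (hqs : Function.Surjective (Points.ofPt q))
    (μ : A →+* C) (hμ : μ.FiniteType) (wμ : Spec.map (CommRingCat.ofHom μ) ≫ sA = sC)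
    (hm : q ≫ π = (yon S).map (sm μ wμ))
    (H : ∀ sq : ValSq π, IsDiscreteValuationRing sq.A → sq.HasLiftExt)
    {Z : Set (Points P)} (hZ : IsClosed Z) :
    IsClosed ((sm μ wμ).left '' (Points.ofPt q ⁻¹' Z)) := by
  refine PrimeSpectrum.isClosed_image_of_stableUnderSpecialization μ _
    (hZ.preimage (Points.continuous_ofPt q)) ?_
  rintro y₁ y hy ⟨u, hu, rfl⟩
  let p : Ideal C := (u : PrimeSpectrum C).asIdeal
  haveI : p.IsPrime := (u : PrimeSpectrum C).2
  by_cases hne : PrimeSpectrum.comap μ u = y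
  · exact ⟨u, hu, hne⟩
  have hle : PrimeSpectrum.comap μ u ≤ y := (PrimeSpectrum.le_iff_specializes _ _).2 hy
  obtain ⟨W, hW, g, hg, hgy⟩ := exists_dvr_centred μ hμ p y.asIdeal
    (lt_of_le_of_ne hle fun e => hne (PrimeSpectrum.ext e))
  let K : Type u := p.ResidueField
  let strW : Spec (CommRingCat.of W) ⟶ S := Spec.map (CommRingCat.ofHom g) ≫ sA
  let strK : Spec (CommRingCat.of K) ⟶ S :=
    Spec.map (CommRingCat.ofHom (algebraMap W K)) ≫ strW
  have wk : Spec.map (CommRingCat.ofHom (algebraMap C K)) ≫ sC = strK := by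
    rw [← wμ]
    exact spec_comm (k := g) (k' := algebraMap W K) hg.symm sA
  let sq : ValSq π :=
    { A := W, K := K, str := strW
      top := (yon S).map (sm (algebraMap C K) wk) ≫ q
      bot := (yon S).map (sm g rfl)
      comm := by
        rw [Category.assoc, hm, ← Functor.map_comp, ← Functor.map_comp]
        exact congrArg _ (sm_ext (sR := sA) wμ rfl wk rfl hg.symm) }
  have hgen : ∀ x, (sm (algebraMap C K) wk).left x = u := fun x => by
    have hx : x = closedPoint K := Subsingleton.elim (α := PrimeSpectrum K) _ _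
    subst hx
    refine PrimeSpectrum.ext ?_
    show (maximalIdeal K).comap (algebraMap C K) = p
    rw [maximalIdeal_eq_bot, ← RingHom.ker_eq_comap_bot, Ideal.ker_algebraMap_residueField]
  obtain ⟨z, hz, hzy⟩ := exists_specialization sq (H sq hW) hZ fun x => by
    show Points.ofPt ((yon S).map (sm (algebraMap C K) wk) ≫ q) x ∈ Z
    rw [ofPt_yon_map_comp, hgen]
    exact hu
  obtain ⟨u', rfl⟩ := hqs z
  refine ⟨u', hz, (Points.schemeHomeo (Over.mk sA)).injective ?_⟩
  have hby : (sm g rfl : Over.mk strW ⟶ Over.mk sA).left (closedPoint W) = y :=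
    PrimeSpectrum.ext hgy
  change _ = Points.ofPt ((yon S).map (sm g rfl : Over.mk strW ⟶ Over.mk sA)) (closedPoint W) at hzy
  rw [← Category.comp_id ((yon S).map (sm g rfl : Over.mk strW ⟶ Over.mk sA)), ofPt_yon_map_comp,
    hby, Points.map_ofPt, hm, ← Category.comp_id ((yon S).map (sm μ wμ)), ofPt_yon_map_comp] at hzy
  exact hzy

/-- Lifting over discrete valuation rings passes to base changes. -/
theorem hasLiftExt_baseChange {F G F' G' : Sp S} {f : F ⟶ G} {f' : F' ⟶ G'} {c : F' ⟶ F}
    {d : G' ⟶ G} (sqQ : IsPullback c f' f d)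
    (H : ∀ sq : ValSq f, IsDiscreteValuationRing sq.A → sq.HasLiftExt)
    (sq : ValSq f') (hA : IsDiscreteValuationRing sq.A) : sq.HasLiftExt := by
  let sqf : ValSq f :=
    { A := sq.A, K := sq.K, str := sq.str, top := sq.top ≫ c, bot := sq.bot ≫ d
      comm := by rw [Category.assoc, sqQ.w, ← Category.assoc, sq.comm, Category.assoc] }
  obtain ⟨e, l, hl₁, hl₂⟩ := H sqf hA
  let e₀ : sq.DomExt :=
    { A' := e.A', K' := e.K', φ := e.φ, ψ := e.ψ, comm := e.comm, isLocalHom := e.isLocalHom }
  let φO : e₀.ptA' ⟶ sq.ptA := Over.homMk (Spec.map (CommRingCat.ofHom e.φ)) rfl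
  obtain ⟨l', hl'₁, hl'₂⟩ : ∃ x, x ≫ c = l ∧ x ≫ f' = (yon S).map φO ≫ sq.bot :=
    ⟨sqQ.lift _ _ (hl₂.trans (Category.assoc _ _ _).symm), sqQ.lift_fst _ _ _, sqQ.lift_snd _ _ _⟩
  refine ⟨e₀, l', sqQ.hom_ext ?_ ?_, hl'₂⟩
  · simp only [Category.assoc]
    rw [hl'₁]
    exact hl₁
  · simp only [Category.assoc]
    rw [hl'₂, sq.comm, ← Functor.map_comp_assoc, ← Functor.map_comp_assoc]
    congr 2
    refine Over.OverMorphism.ext ?_
    show Spec.map _ ≫ Spec.map _ = Spec.map _ ≫ Spec.map _
    rw [← Spec.map_comp, ← Spec.map_comp, ← CommRingCat.ofHom_comp, ← CommRingCat.ofHom_comp]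
    exact congrArg (fun φ => Spec.map (CommRingCat.ofHom φ)) e.comm

/-- Lifts over discrete valuation rings give closed maps over locally Noetherian schemes. -/
theorem isClosedMap_of_dvr {X Y : Space S} (f : X ⟶ Y) (hf : IsFiniteTypeMor f.hom)
    (H : ∀ sq : ValSq f.hom, IsDiscreteValuationRing sq.A → sq.HasLiftExt)
    {T : Over S} [IsLocallyNoetherian T.left] {g : (yon S).obj T ⟶ Y.obj} {P : Sp S}
    {fst : P ⟶ X.obj} {snd : P ⟶ (yon S).obj T} (sq : IsPullback fst snd f.hom g) :
    IsClosedMap (Points.map snd) := by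
  intro Z hZ
  rw [← (Points.schemeHomeo T).isClosed_preimage, ← isOpen_compl_iff]
  refine isOpen_iff_forall_mem_open.2 fun t ht => ?_
  obtain ⟨O, hO, htO, -⟩ := exists_isAffineOpen_mem_and_subset (x := t) (U := ⊤) trivial
  let V₀ : Over S := Over.mk (O.ι ≫ T.hom)
  haveI : IsAffine V₀.left := hO
  obtain ⟨A, sA, ⟨iA⟩⟩ := exists_spec_iso V₀
  haveI : IsIso iA.hom.left := inferInstanceAs (IsIso ((Over.forget S).map iA.hom))
  let ι : Over.mk sA ⟶ T := iA.hom ≫ Over.homMk O.ι rfl
  haveI : IsOpenImmersion ι.left := inferInstanceAs (IsOpenImmersion (iA.hom.left ≫ O.ι))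
  haveI : IsNoetherianRing A := (isLocallyNoetherian_Spec (R := A)).1
    (isLocallyNoetherian_of_isOpenImmersion ι.left)
  obtain ⟨t₀, ht₀⟩ : ∃ t₀, ι.left t₀ = t := by
    obtain ⟨t₀, h⟩ := iA.hom.left.homeomorph.surjective ⟨t, htO⟩
    exact ⟨t₀, (congrArg O.ι h).trans rfl⟩
  suffices h : IsClosed (ι.left ⁻¹' (Points.schemeHomeo T ⁻¹' (Points.map snd '' Z))) from
    ⟨ι.left '' (ι.left ⁻¹' (Points.schemeHomeo T ⁻¹' (Points.map snd '' Z)))ᶜ,
      Set.image_subset_iff.2 fun _ hx => hx,
      ι.left.isOpenEmbedding.isOpenMap _ h.isOpen_compl, ⟨t₀, fun hx => ht (ht₀ ▸ hx), ht₀⟩⟩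
  have sqP := IsPullback.of_hasPullback snd ((yon S).map ι)
  have sqX := sqP.paste_horiz sq
  let p₁ := pullback.fst snd ((yon S).map ι)
  let π := pullback.snd snd ((yon S).map ι)
  have hP : IsAlgSpace (pullback snd ((yon S).map ι)) :=
    isAlgSpace_of_isPullback sqX Y.property.diag X.property (IsAlgSpace.yon_obj _)
  haveI : IsAffine (Over.mk sA).left := inferInstanceAs (IsAffine (Spec A))
  haveI : CompactSpace ↥(Over.mk sA).left := Scheme.compactSpace_of_isAffine _
  haveI := QC.compactSpace_of_isQuasiCompactMor hf.2 sqX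
  obtain ⟨U, r, hU, hr, hrs⟩ := QC.exists_affine_atlas hP
  obtain ⟨C, sC, ⟨iC⟩⟩ := exists_spec_iso U
  haveI : IsIso iC.hom.left := inferInstanceAs (IsIso ((Over.forget S).map iC.hom))
  let q := (yon S).map iC.hom ≫ r
  have hq : RepWith @Etale q := repWith_yon_map_comp (P := @Etale) inferInstance hr
  have hqs : RepWith @Surjective q := repWith_yon_map_comp (P := @Surjective) inferInstance hrs
  obtain ⟨mO, hmO⟩ := (yon S).map_surjective (q ≫ π)
  obtain ⟨μ, wμ, hm⟩ := exists_sm mO
  subst hm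
  have hπ : LocP @LocallyOfFiniteType π :=
    LocP.locP_of_isPullback SourceDescent.Scheme.locallyOfFiniteType X.property Y.property
      (IsAlgSpace.yon_obj _) sqX hf.1
  have hμ : μ.FiniteType := by
    have h₁ : LocallyOfFiniteType (sm μ wμ).left :=
      hπ q (𝟙 _) (sm μ wμ) hq (repWith_of_isIso @Etale _) (by rw [Category.comp_id]; exact hmO.symm)
    exact (HasRingHomProperty.Spec_iff (P := @LocallyOfFiniteType)).1 h₁
  have himg : ι.left ⁻¹' (Points.schemeHomeo T ⁻¹' (Points.map snd '' Z)) =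
      (sm μ wμ).left '' (Points.ofPt q ⁻¹' (Points.map p₁ ⁻¹' Z)) := by
    ext v
    constructor
    · rintro ⟨c, hc, hcv⟩
      obtain ⟨z, hz₁, hz₂⟩ := exists_of_isPullback sqP c (Points.schemeHomeo _ v)
        (hcv.trans (Points.map_yon_map_apply ι v).symm)
      obtain ⟨u, rfl⟩ := surjective_ofPt hqs z
      refine ⟨u, show Points.map _ _ ∈ Z from hz₁.symm ▸ hc,
        (Points.schemeHomeo (Over.mk sA)).injective ?_⟩
      refine Eq.trans ?_ hz₂
      rw [Points.map_ofPt, ← hmO, ← Category.comp_id ((yon S).map (sm μ wμ)), ofPt_yon_map_comp]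
      rfl
    · rintro ⟨u, hu, rfl⟩
      refine ⟨Points.map p₁ (Points.ofPt q u), hu, ?_⟩
      rw [← Points.map_comp, sqP.w, Points.map_comp, Points.map_ofPt]
      show Points.map _ (Points.ofPt (q ≫ π) u) = _
      rw [← hmO, ← Category.comp_id ((yon S).map (sm μ wμ)), ofPt_yon_map_comp]
      exact Points.map_yon_map_apply ι _
  rw [himg]
  exact isClosed_image (surjective_ofPt hqs) μ hμ wμ hmO.symm
    (hasLiftExt_baseChange sqX H) (hZ.preimage (Points.continuous_map p₁))

/-- Lifts over discrete valuation rings give universal closedness. -/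
theorem isUnivClosedMor_of_dvr {X Y : Space S} (f : X ⟶ Y) (hf : IsFiniteTypeMor f.hom)
    (hY : IsLocNoethSp Y.obj)
    (H : ∀ sq : ValSq f.hom, IsDiscreteValuationRing sq.A → sq.HasLiftExt) :
    IsUnivClosedMor f.hom := by
  obtain ⟨V, p, hp, hps, hV⟩ := hY
  refine (Groth.Agent.S10053.result S f hf.2).2.2 ⟨V, p, hp, hps, fun n P fst snd sq => ?_⟩
  haveI : IsLocallyNoetherian V.left := hV
  haveI : IsLocallyNoetherian
      (Over.mk ((𝔸(ULift.{u} (Fin n); V.left) ↘ V.left) ≫ V.hom)).left :=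
    LocallyOfFiniteType.isLocallyNoetherian (𝔸(ULift.{u} (Fin n); V.left) ↘ V.left)
  exact isClosedMap_of_dvr f hf H sq

/-- Finite separable dominating extensions of a discrete valuation ring are discrete. -/
theorem isDVR_domExt {F G : Sp S} {f : F ⟶ G} (sq : ValSq f) (hA : IsDiscreteValuationRing sq.A)
    (e : sq.DomExt)
    (hfin : letI := e.ψ.toAlgebra; Module.Finite sq.K e.K' ∧ Algebra.IsSeparable sq.K e.K') :
    IsDiscreteValuationRing e.A' := by
  letI : Algebra sq.K e.K' := e.ψ.toAlgebra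
  haveI := hfin.1
  haveI := hfin.2
  haveI : IsLocalHom e.φ := e.isLocalHom
  let σ : e.A' →+* rangeVal e.A' e.K' :=
    (algebraMap e.A' e.K').codRestrict (rangeVal e.A' e.K').toSubring fun a => ⟨a, rfl⟩
  let ε : e.A' ≃+* rangeVal e.A' e.K' := RingEquiv.ofBijective σ
    ⟨fun a b h => IsFractionRing.injective e.A' e.K' (congrArg Subtype.val h),
      fun ⟨_, a, ha⟩ => ⟨a, Subtype.ext ha⟩⟩
  have hc : ∀ a, e.ψ (algebraMap sq.A sq.K a) = algebraMap e.A' e.K' (e.φ a) :=
    fun a => (RingHom.congr_fun e.comm a).symm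
  have h : EtRam.Dominates sq.A ((algebraMap sq.K e.K').comp (algebraMap sq.A sq.K))
      (rangeVal e.A' e.K') := by
    refine ⟨fun a => ⟨e.φ a, (hc a).symm⟩, fun a ha => ?_⟩
    show (rangeVal e.A' e.K').valuation (e.ψ (algebraMap sq.A sq.K a)) < 1
    rw [hc]
    refine (ValuationSubring.valuation_lt_one_iff _ (ε (e.φ a))).1 fun hu => ?_
    exact ha (IsLocalHom.map_nonunit (f := e.φ) a ((MulEquiv.isUnit_map ε).1 hu))
  haveI := H48.DomVal.isDVR sq.A sq.K e.K' h
  exact IsDiscreteValuationRing.RingEquivClass.isDiscreteValuationRing ε.symm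

end Groth.Agent.Lib.AlgSpVal.DvrClosed
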