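import Groth.Agent.Lib.AlgSpVal.Refined
import Groth.Agent.Lib.AlgSpVal.DvrAlgebra
import Groth.Agent.Lib.AlgSpMor.LocP

/-!
# The existence criterion may be tested on discrete valuation rings
-/

set_option autoImplicit false
set_option linter.style.haveILetI false

universe u

open CategoryTheory CategoryTheory.Limits AlgebraicGeometry IsLocalRing
open AlgSp Groth.Agent.Lib.AlgSpace Groth.Agent.Lib.AlgSpMor

namespace Groth.Agent.Lib.AlgSpVal

/-- A field valued point through a given point is given by a map of the residue field. -/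
theorem exists_residueField_hom {M : Type u} [Field M] {X : Scheme.{u}}
    (g : Spec (CommRingCat.of M) ⟶ X) (x : X) (h : g (closedPoint M) = x) :
    ∃ θ : X.residueField x →+* M,
      Spec.map (CommRingCat.ofHom θ) ≫ X.fromSpecResidueField x = g := by
  obtain ⟨⟨y, θ⟩, rfl⟩ := (Scheme.SpecToEquivOfField M X).symm.surjective g
  have hy : y = x := by
    rw [← h]
    exact (Scheme.fromSpecResidueField_apply y (Spec.map θ (closedPoint M))).symm
  subst hy
  exact ⟨θ.hom, rfl⟩

/-- The valuation subring given by a valuation ring and its fraction field. -/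
def rangeVal (A K : Type u) [CommRing A] [IsDomain A] [ValuationRing A] [Field K] [Algebra A K]
    [IsFractionRing A K] : ValuationSubring K :=
  ValuationSubring.ofSubring (algebraMap A K).range fun x =>
    ValuationRing.isInteger_or_isInteger A x

/-- Restricting a valuation ring to a subfield and extending it again. -/
theorem exists_valuation_transport {W A' k₀ kL k R : Type u} [CommRing W] [CommRing A']
    [IsDomain A'] [ValuationRing A'] [Field k₀] [Algebra A' k₀] [IsFractionRing A' k₀] [Field kL]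
    [Field k] [CommRing R] (φ₀ : W →+* A') [IsLocalHom φ₀] (γ₀ : R →+* A') (θ₁ : kL →+* k₀)
    (θ₂ : kL →+* k) (ψL : W →+* kL) (γL : R →+* kL)
    (hψ : θ₁.comp ψL = (algebraMap A' k₀).comp φ₀) (hγ : θ₁.comp γL = (algebraMap A' k₀).comp γ₀) :
    ∃ (V : ValuationSubring k) (φ : W →+* V), IsLocalHom φ ∧ V.subtype.comp φ = θ₂.comp ψL ∧
      ∀ r, θ₂ (γL r) ∈ V := by
  let VL : ValuationSubring kL := (rangeVal A' k₀).comap θ₁
  have hW : ∀ w, ψL w ∈ VL := fun w => ⟨φ₀ w, (RingHom.congr_fun hψ w).symm⟩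
  have hR : ∀ r, γL r ∈ VL := fun r => ⟨γ₀ r, (RingHom.congr_fun hγ r).symm⟩
  obtain ⟨V, hV, hVl⟩ := exists_factor_valuationRing (θ₂.comp VL.subtype)
  let φW : W →+* VL := ψL.codRestrict VL.toSubring hW
  let φV : VL →+* V := (θ₂.comp VL.subtype).codRestrict V.toSubring hV
  refine ⟨V, φV.comp φW, ⟨fun w hw => ?_⟩, rfl, fun r => hV ⟨_, hR r⟩⟩
  have h₁ : IsUnit (φW w) := hVl.map_nonunit _ hw
  obtain ⟨v, hv⟩ := h₁
  obtain ⟨c, hc⟩ := ((↑v⁻¹ : VL) : VL).2
  refine IsLocalHom.map_nonunit (f := φ₀) _ (.of_mul_eq_one c (IsFractionRing.injective A' k₀ ?_))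
  rw [map_mul, map_one, ← RingHom.comp_apply, ← hψ, RingHom.comp_apply, hc, ← map_mul,
    show ψL w * ((↑v⁻¹ : VL) : kL) = 1 from by
      rw [← show ((v : VL) : kL) = ψL w from congrArg Subtype.val hv]
      exact congrArg Subtype.val v.mul_inv, map_one]

variable {S : Scheme.{u}}

theorem spec_comm {R A B C : Type u} [CommRing R] [CommRing A] [CommRing B] [CommRing C]
    {g : R →+* A} {g' : A →+* C} {k : R →+* B} {k' : B →+* C} (h : g'.comp g = k'.comp k)
    {X : Scheme.{u}} (s : Spec (CommRingCat.of R) ⟶ X) :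
    Spec.map (CommRingCat.ofHom g') ≫ Spec.map (CommRingCat.ofHom g) ≫ s =
      Spec.map (CommRingCat.ofHom k') ≫ Spec.map (CommRingCat.ofHom k) ≫ s := by
  rw [← Spec.map_comp_assoc, ← Spec.map_comp_assoc, ← CommRingCat.ofHom_comp,
    ← CommRingCat.ofHom_comp, h]

/-- A point of a scheme over `S` as a universal point with values in a field. -/
theorem exists_field_point (W : Over S) (w : W.left) :
    ∃ (k : Type u) (_ : Field k) (str : Spec (CommRingCat.of k) ⟶ S) (κ : Over.mk str ⟶ W),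
      κ.left (closedPoint k) = w ∧
        ∀ {M : Type u} [Field M] (g : Spec (CommRingCat.of M) ⟶ W.left), g (closedPoint M) = w →
          ∃ θ : k →+* M, Spec.map (CommRingCat.ofHom θ) ≫ κ.left = g :=
  ⟨W.left.residueField w, inferInstance, W.left.fromSpecResidueField w ≫ W.hom,
    Over.homMk (W.left.fromSpecResidueField w) rfl, Scheme.fromSpecResidueField_apply w _,
    fun g hg => exists_residueField_hom g w hg⟩

/-- If squares over discrete valuation rings coming from `E` lift after extension, then so do all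
squares coming from `E`. -/
theorem hasLiftExt_of_dvr {E F G : Sp S} (hE : IsAlgSpace E) (hF : IsAlgSpace F)
    (hG : IsAlgSpace G) (hN : IsLocNoethSp G) {h : E ⟶ F} {f : F ⟶ G}
    (hh : LocP @LocallyOfFiniteType h) (hf : LocP @LocallyOfFiniteType f)
    (hqc : IsQuasiCompactMor f) (hqs : IsQuasiSeparatedMor f)
    (H : ∀ sq' : ValSq f, IsDiscreteValuationRing sq'.A → (∃ t, t ≫ h = sq'.top) → sq'.HasLiftExt)
    (sq : ValSq f) (ht : ∃ t, t ≫ h = sq.top) : sq.HasLiftExt := by
  obtain ⟨t, ht⟩ := ht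
  obtain ⟨R₀, str₀, q₀, e, g₀, w₀, hR₀, hq₀, hbot⟩ := exists_chart_lift_noetherian hG hN sq
  let ψO : e.ptK' ⟶ sq.ptK := sm e.ψ (by
    rw [← Category.assoc, ← Category.assoc, ← Spec.map_comp, ← Spec.map_comp,
      ← CommRingCat.ofHom_comp, ← CommRingCat.ofHom_comp, e.comm])
  let jO : e.ptK' ⟶ e.ptA' := sm (algebraMap e.A' e.K') rfl
  -- a finite type scheme over the part the square comes from
  have sqQ := IsPullback.of_hasPullback (h ≫ f) q₀
  have hQ : IsAlgSpace (pullback (h ≫ f) q₀) :=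
    isAlgSpace_of_isPullback sqQ hG.diag hE (IsAlgSpace.yon_obj _)
  obtain ⟨sQ, hsQ₁, hsQ₂⟩ : ∃ s, s ≫ pullback.fst (h ≫ f) q₀ = (yon S).map ψO ≫ t ∧
      s ≫ pullback.snd (h ≫ f) q₀ = (yon S).map jO ≫ (yon S).map (sm g₀ w₀) := by
    refine ⟨sqQ.lift _ _ ?_, sqQ.lift_fst _ _ _, sqQ.lift_snd _ _ _⟩
    rw [Category.assoc, reassoc_of% ht, sq.comm, Category.assoc, hbot, ← Functor.map_comp_assoc,
      ← Functor.map_comp_assoc]
    congr 2
    exact sm_ext (sR := sq.str) _ _ _ _ e.comm.symm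
  obtain ⟨UZ, UZ'', qZ, aZ, eZ, hUZ, hqZ, sqZ, z, -⟩ :=
    exists_affine_chart hQ sQ (closedPoint e.K')
  obtain ⟨RZ, strZ, ⟨iZ⟩⟩ := exists_spec_iso UZ
  haveI : IsIso iZ.hom.left := inferInstanceAs (IsIso ((Over.forget S).map iZ.hom))
  let rZ := (yon S).map iZ.hom ≫ qZ
  have hrZ : RepWith @Etale rZ := repWith_yon_map_comp (P := @Etale) inferInstance hqZ
  obtain ⟨K₂, _, str₂, κ₂, -, -⟩ := exists_field_point UZ'' z
  obtain ⟨δ₀, wδ, hδ⟩ := exists_sm (κ₂ ≫ aZ ≫ iZ.inv)
  obtain ⟨ψ₂, wψ, hψ₂⟩ := exists_sm (κ₂ ≫ eZ)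
  have hδs : (yon S).map (sm δ₀ wδ) ≫ rZ = (yon S).map (sm ψ₂ wψ) ≫ sQ := by
    refine (congrArg (fun x => (yon S).map x ≫ rZ) hδ.symm).trans
      (Eq.trans ?_ (congrArg (fun x => (yon S).map x ≫ sQ) hψ₂))
    simp only [rZ, Functor.map_comp, Category.assoc]
    rw [Iso.map_inv_hom_id_assoc, sqZ.w]
  obtain ⟨μO, hμO⟩ := (yon S).map_surjective (rZ ≫ pullback.snd (h ≫ f) q₀)
  obtain ⟨μ, wμ, hμ⟩ := exists_sm μO
  rw [hμ] at hμO
  have hμft : μ.FiniteType := by
    have hhf : LocP @LocallyOfFiniteType (h ≫ f) :=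
      LocP.locP_comp SourceDescent.Scheme.locallyOfFiniteType hE hF hG hh hf
    have h₁ : LocallyOfFiniteType (sm μ wμ).left :=
      hhf (rZ ≫ pullback.fst (h ≫ f) q₀) q₀ (sm μ wμ)
        (repWith_comp hrZ (repWith_baseChange sqQ.flip hq₀)) hq₀
        (by simp only [hμO, Category.assoc, sqQ.w])
    exact (HasRingHomProperty.Spec_iff (P := @LocallyOfFiniteType)).1 h₁
  obtain ⟨A₂, hA₂, hA₂l⟩ := exists_factor_valuationRing (ψ₂.comp (algebraMap e.A' e.K'))
  let gA : e.A' →+* A₂ := (ψ₂.comp (algebraMap e.A' e.K')).codRestrict A₂.toSubring hA₂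
  haveI : IsLocalHom gA := hA₂l
  have hδμ : δ₀.comp μ = A₂.subtype.comp (gA.comp g₀) := by
    have e₁ : (yon S).map (sm δ₀ wδ ≫ sm μ wμ) =
        (yon S).map (sm ψ₂ wψ ≫ jO ≫ sm g₀ w₀) := by
      simp only [Functor.map_comp]
      rw [hμO, ← Category.assoc, hδs, Category.assoc, hsQ₂]
    have e₂ : (jO ≫ sm g₀ w₀) = sm ((algebraMap e.A' e.K').comp g₀) (sm_w w₀ rfl) := sm_comp _ _
    rw [e₂] at e₁
    exact comp_eq_of_map_eq ((congrArg _ (sm_comp wμ wδ)).symm.trans
      (e₁.trans (congrArg _ (sm_comp _ wψ))))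
  -- the space to lift into
  have sqP := IsPullback.of_hasPullback f q₀
  have hP : IsAlgSpace (pullback f q₀) :=
    isAlgSpace_of_isPullback sqP hG.diag hF (IsAlgSpace.yon_obj _)
  haveI : CompactSpace ↥(Over.mk str₀).left := inferInstanceAs (CompactSpace ↥(Spec R₀))
  haveI := QC.compactSpace_of_isQuasiCompactMor hqc sqP
  obtain ⟨U, r, hU, hr, hrs⟩ := QC.exists_affine_atlas hP
  obtain ⟨RU, strU, ⟨iU⟩⟩ := exists_spec_iso U
  haveI : IsIso iU.hom.left := inferInstanceAs (IsIso ((Over.forget S).map iU.hom))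
  let rU := (yon S).map iU.hom ≫ r
  have hrU : RepWith @Etale rU := repWith_yon_map_comp (P := @Etale) inferInstance hr
  have hrUs : RepWith @Surjective rU := repWith_yon_map_comp (P := @Surjective) inferInstance hrs
  obtain ⟨mO, hmO⟩ := (yon S).map_surjective (rU ≫ pullback.snd f q₀)
  obtain ⟨m, wm, hm⟩ := exists_sm mO
  rw [hm] at hmO
  obtain ⟨s₂, hs₁, hs₂⟩ : ∃ s, s ≫ pullback.fst f q₀ =
        (yon S).map (sm δ₀ wδ) ≫ rZ ≫ pullback.fst (h ≫ f) q₀ ≫ h ∧
      s ≫ pullback.snd f q₀ = (yon S).map (sm δ₀ wδ) ≫ (yon S).map (sm μ wμ) := by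
    refine ⟨sqP.lift _ _ ?_, sqP.lift_fst _ _ _, sqP.lift_snd _ _ _⟩
    simp only [hμO, Category.assoc, sqQ.w]
  obtain ⟨W, a, b, sqW⟩ := exists_isPullback_yon hP.diag rU s₂
  haveI : IsAffine (Over.mk strU).left := inferInstanceAs (IsAffine (Spec RU))
  haveI : IsAffine (Over.mk str₀).left := inferInstanceAs (IsAffine (Spec R₀))
  haveI : Subsingleton ↥(Over.mk str₂).left := inferInstanceAs (Subsingleton (PrimeSpectrum K₂))
  haveI : IsAffine (Over.mk str₂).left := inferInstanceAs (IsAffine (Spec _))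
  haveI : Finite W.left := finite_fibre_chart (Sep.repWith_diagonal_baseChange sqP hqs) hrU
    (closedPoint K₂) sqW
  haveI : Nonempty W.left := by
    obtain ⟨w, -⟩ := (repWith_property hrUs sqW).surj (closedPoint K₂)
    exact ⟨w⟩
  choose kW instW strW κW hκW huW using fun w : W.left => exists_field_point W w
  choose γ wγ hγ using fun w : W.left => exists_sm (κW w ≫ a)
  choose ψ wψw hψw using fun w : W.left => exists_sm (κW w ≫ b)
  have hγs : ∀ w, (yon S).map (sm (γ w) (wγ w)) ≫ rU = (yon S).map (sm (ψ w) (wψw w)) ≫ s₂ :=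
    fun w => (congrArg (fun x => (yon S).map x ≫ rU) (hγ w).symm).trans
      (Eq.trans (by rw [Functor.map_comp, Functor.map_comp, Category.assoc, Category.assoc, sqW.w])
        (congrArg (fun x => (yon S).map x ≫ s₂) (hψw w)))
  by_cases hlift : ∃ (w : W.left) (V : ValuationSubring (kW w)) (φ : A₂ →+* V),
      IsLocalHom φ ∧ V.subtype.comp φ = (ψ w).comp A₂.subtype ∧ ∀ r, γ w r ∈ V
  · obtain ⟨w, V, φ, hφl, hφ, hγV⟩ := hlift
    haveI : IsLocalHom φ := hφl
    haveI : IsLocalHom e.φ := e.isLocalHom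
    let γV : RU →+* V := (γ w).codRestrict V.toSubring hγV
    let e₄ : sq.DomExt :=
      { A' := V, K' := kW w, φ := (φ.comp gA).comp e.φ
        ψ := ((ψ w).comp ψ₂).comp e.ψ
        comm := by
          refine RingHom.ext fun x => ?_
          show ((φ (gA (e.φ x)) : V) : kW w) = ψ w (ψ₂ (e.ψ (algebraMap sq.A sq.K x)))
          rw [show e.ψ (algebraMap sq.A sq.K x) = algebraMap e.A' e.K' (e.φ x) from
            (RingHom.congr_fun e.comm x).symm]
          exact RingHom.congr_fun hφ (gA (e.φ x))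
        isLocalHom := inferInstance }
    have hγm : (γ w).comp m = (ψ w).comp (A₂.subtype.comp (gA.comp g₀)) := by
      rw [← hδμ]
      have e₁ : (yon S).map (sm (γ w) (wγ w) ≫ sm m wm) =
          (yon S).map (sm (ψ w) (wψw w) ≫ sm δ₀ wδ ≫ sm μ wμ) := by
        simp only [Functor.map_comp]
        rw [hmO, ← Category.assoc, hγs, Category.assoc, hs₂]
      rw [sm_comp wμ wδ] at e₁
      exact comp_eq_of_map_eq ((congrArg _ (sm_comp wm (wγ w))).symm.trans
        (e₁.trans (congrArg _ (sm_comp _ (wψw w)))))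
    have hbotV : γV.comp m = (φ.comp gA).comp g₀ := RingHom.ext fun x => Subtype.ext
      ((RingHom.congr_fun hγm x).trans (RingHom.congr_fun hφ (gA (g₀ x))).symm)
    have wV : Spec.map (CommRingCat.ofHom γV) ≫ strU = e₄.ptA'.hom := by
      show _ = Spec.map (CommRingCat.ofHom ((φ.comp gA).comp e.φ)) ≫ sq.str
      rw [← wm, ← Spec.map_comp_assoc, ← CommRingCat.ofHom_comp, hbotV, CommRingCat.ofHom_comp,
        Spec.map_comp, Category.assoc, w₀, ← Spec.map_comp_assoc, ← CommRingCat.ofHom_comp]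
    refine ⟨e₄, (yon S).map (sm γV wV : e₄.ptA' ⟶ Over.mk strU) ≫ rU ≫ pullback.fst f q₀, ?_, ?_⟩
    · let iw : e₄.ptK' ⟶ Over.mk (strW w) :=
        Over.homMk (𝟙 _) (by
          show 𝟙 _ ≫ _ = Spec.map _ ≫ e₄.ptA'.hom
          rw [Category.id_comp, ← wV, ← Spec.map_comp_assoc, ← CommRingCat.ofHom_comp, ← wγ w]
          rfl)
      have h₁ : (sm (algebraMap V (kW w)) rfl : e₄.ptK' ⟶ e₄.ptA') ≫ sm γV wV =
          iw ≫ sm (γ w) (wγ w) := Over.OverMorphism.ext (by
        show Spec.map _ ≫ Spec.map _ = 𝟙 _ ≫ Spec.map _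
        rw [← Spec.map_comp, ← CommRingCat.ofHom_comp, Category.id_comp]
        rfl)
      rw [← Functor.map_comp_assoc]
      refine (congrArg (fun x => (yon S).map x ≫ rU ≫ pullback.fst f q₀) h₁).trans ?_
      rw [Functor.map_comp_assoc, reassoc_of% (hγs w), hs₁, reassoc_of% hδs,
        reassoc_of% hsQ₁, ht]
      simp only [← Functor.map_comp_assoc]
      congr 2
      refine Over.OverMorphism.ext ?_
      show ((𝟙 _ ≫ Spec.map _) ≫ Spec.map _) ≫ Spec.map _ = Spec.map _
      rw [Category.id_comp, ← Spec.map_comp, ← Spec.map_comp, ← CommRingCat.ofHom_comp,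
        ← CommRingCat.ofHom_comp]
    · rw [Category.assoc, Category.assoc, sqP.w, ← Category.assoc rU, ← hmO,
        ← Functor.map_comp_assoc]
      have hb : (sm γV wV : e₄.ptA' ⟶ Over.mk strU) ≫ sm m wm =
          (sm (φ.comp gA) (by
            show Spec.map _ ≫ Spec.map _ ≫ sq.str = Spec.map _ ≫ sq.str
            rw [← Spec.map_comp_assoc, ← CommRingCat.ofHom_comp]) : e₄.ptA' ⟶ e.ptA') ≫ sm g₀ w₀ :=
        sm_ext _ _ _ _ hbotV
      refine Eq.trans (congrArg ((yon S).map · ≫ q₀) hb) ?_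
      rw [Functor.map_comp_assoc, hbot, ← Functor.map_comp_assoc, sm_comp]
      rfl
  · exfalso
    obtain ⟨L, V₁, gW, δL, hV₁, hδL, hgW, hno⟩ := exists_dvr_obstruction A₂ (gA.comp g₀)
      kW ψ γ μ hμft δ₀ hδμ
      fun w V φ hl hc => by
        by_contra hn
        push Not at hn
        exact hlift ⟨w, V, φ, hl, hc, hn⟩
    let sV : Spec (CommRingCat.of V₁) ⟶ S := Spec.map (CommRingCat.ofHom gW) ≫ str₀
    have wtop : Spec.map (CommRingCat.ofHom δL) ≫ strZ =
        Spec.map (CommRingCat.ofHom (algebraMap V₁ L)) ≫ sV := by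
      rw [← wμ, ← Spec.map_comp_assoc, ← Spec.map_comp_assoc, ← CommRingCat.ofHom_comp,
        ← CommRingCat.ofHom_comp, ← hgW]
      rfl
    let sq' : ValSq f :=
      { A := V₁, K := L, str := sV
        top := (yon S).map (sm δL wtop) ≫ rZ ≫ pullback.fst (h ≫ f) q₀ ≫ h
        bot := (yon S).map (sm gW rfl) ≫ q₀
        comm := by
          simp only [Category.assoc]
          rw [sqQ.w, ← Category.assoc rZ, ← hμO]
          simp only [← Functor.map_comp_assoc]
          congr 2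
          exact sm_ext _ _ _ _ hgW.symm }
    obtain ⟨e', l, hl₁, hl₂⟩ := H sq' hV₁
      ⟨(yon S).map (sm δL wtop) ≫ rZ ≫ pullback.fst (h ≫ f) q₀, by
        show _ = (yon S).map (sm δL wtop) ≫ rZ ≫ pullback.fst (h ≫ f) q₀ ≫ h
        simp only [Category.assoc]⟩
    haveI : IsLocalHom e'.φ := e'.isLocalHom
    let j' : e'.ptK' ⟶ e'.ptA' := sm (algebraMap e'.A' e'.K') rfl
    let φ' : e'.ptA' ⟶ sq'.ptA := sm e'.φ rfl
    let ψ' : e'.ptK' ⟶ sq'.ptK := sm e'.ψ (spec_comm e'.comm.symm sq'.str)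
    obtain ⟨lP, hlP₁, hlP₂⟩ : ∃ x, x ≫ pullback.fst f q₀ = l ∧
        x ≫ pullback.snd f q₀ = (yon S).map φ' ≫ (yon S).map (sm gW rfl) :=
      ⟨sqP.lift _ _ (hl₂.trans (by rw [Category.assoc]; rfl)), sqP.lift_fst _ _ _,
        sqP.lift_snd _ _ _⟩
    obtain ⟨sL, hsL₁, hsL₂⟩ : ∃ x, x ≫ pullback.fst f q₀ = sq'.top ∧
        x ≫ pullback.snd f q₀ = (yon S).map sq'.j ≫ (yon S).map (sm gW rfl) :=
      ⟨sqP.lift _ _ (sq'.comm.trans (by rw [Category.assoc])), sqP.lift_fst _ _ _,
        sqP.lift_snd _ _ _⟩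
    have hls : (yon S).map j' ≫ lP = (yon S).map ψ' ≫ sL := by
      refine sqP.hom_ext ?_ ?_
      · rw [Category.assoc, Category.assoc, hlP₁, hsL₁]
        exact hl₁
      · rw [Category.assoc, Category.assoc, hlP₂, hsL₂]
        simp only [← Functor.map_comp]
        congr 1
        rw [← Category.assoc, ← Category.assoc]
        congr 1
        exact sm_ext _ _ _ _ e'.comm
    obtain ⟨WL, aL, bL, sqL⟩ := exists_isPullback_yon hP.diag rU sL
    obtain ⟨U', a', e'', sq''⟩ := exists_isPullback_yon hP.diag rU lP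
    have : Etale e''.left := repWith_property hrU sq''
    obtain ⟨z', hz'⟩ := (repWith_property hrUs sq'').surj (closedPoint e'.A')
    obtain ⟨z₀, hz₀, hz₀η⟩ := (Flat.generalizingMap e''.left) (a := z')
      (b := j'.left (closedPoint e'.K')) (by rw [hz']; exact specializes_algebraMap _)
    obtain ⟨sqv, κ, β, hκ, hκu, hβ, hβy⟩ := exists_valSq (π := 𝟙 ((yon S).obj U'))
      (q := (yon S).map (𝟙 U')) (m := 𝟙 U') (Category.comp_id _) z₀ z' hz₀
    have hκβ : κ = sqv.j ≫ β := (yon S).map_injective (by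
      have := sqv.comm
      rw [← hκ, ← hβ, Category.comp_id, (yon S).map_id, Category.comp_id] at this
      rw [this, Functor.map_comp])
    obtain ⟨φ₀, wφ₀, hφ₀⟩ := exists_sm (β ≫ e'')
    obtain ⟨γ₀, wγ₀, hγ₀⟩ := exists_sm (β ≫ a')
    haveI hφ₀l : IsLocalHom φ₀ := (isLocalHom_iff_comap_closedPoint φ₀).2 (by
      have := congrArg (fun x => x.left (closedPoint sqv.A)) hφ₀
      refine this.symm.trans ?_
      show e''.left (β.left (closedPoint sqv.A)) = _
      rw [hβy, hz'])
    -- restrict to the subfield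
    have hinj : Function.Injective ((algebraMap sqv.A sqv.K).comp φ₀) := by
      refine (injective_iff_map_eq_zero _).2 fun x hx => ?_
      have hρ : Spec.map (CommRingCat.ofHom ((algebraMap sqv.A sqv.K).comp φ₀)) (closedPoint sqv.K) =
          j'.left (closedPoint e'.K') := by
        rw [← hz₀η, ← hκu (closedPoint sqv.K), hκβ]
        have := congrArg (fun x => x.left (sqv.j.left (closedPoint sqv.K))) hφ₀
        exact this.symm
      have h0 : x ∈ (j'.left (closedPoint e'.K')).asIdeal := by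
        rw [← hρ]
        show ((algebraMap sqv.A sqv.K).comp φ₀) x ∈ (closedPoint sqv.K).asIdeal
        rw [hx]
        exact zero_mem _
      change algebraMap e'.A' e'.K' x ∈ maximalIdeal e'.K' at h0
      rw [maximalIdeal_eq_bot, Ideal.mem_bot] at h0
      exact IsFractionRing.injective e'.A' e'.K' (h0.trans (map_zero _).symm)
    let ψ₀ : e'.K' →+* sqv.K := IsFractionRing.lift hinj
    have hψ₀ : ψ₀.comp (algebraMap e'.A' e'.K') = (algebraMap sqv.A sqv.K).comp φ₀ :=
      RingHom.ext fun x => IsFractionRing.lift_algebraMap hinj x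
    have wψ₀ : Spec.map (CommRingCat.ofHom ψ₀) ≫ e'.ptK'.hom = sqv.ptK.hom := by
      show Spec.map _ ≫ Spec.map _ ≫ e'.ptA'.hom = Spec.map _ ≫ sqv.str
      rw [← wφ₀, ← Spec.map_comp_assoc, ← Spec.map_comp_assoc, ← CommRingCat.ofHom_comp,
        ← CommRingCat.ofHom_comp, hψ₀]
      rfl
    obtain ⟨c₀, hc₀₁, hc₀₂⟩ : ∃ c : sqv.ptK ⟶ WL, c ≫ aL = sqv.j ≫ sm γ₀ wγ₀ ∧
        c ≫ bL = sm ψ₀ wψ₀ ≫ ψ' := by
      obtain ⟨c, hc⟩ := (yon S).map_surjective (sqL.lift ((yon S).map (sqv.j ≫ β ≫ a'))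
        ((yon S).map (sm ψ₀ wψ₀ ≫ ψ')) (by
          simp only [Functor.map_comp, Category.assoc]
          rw [sq''.w, ← hls]
          simp only [← Functor.map_comp_assoc]
          congr 2
          rw [hφ₀]
          exact sm_ext _ _ _ _ hψ₀.symm))
      refine ⟨c, ?_, (yon S).map_injective (by rw [Functor.map_comp, hc, sqL.lift_snd])⟩
      rw [← hγ₀]
      exact (yon S).map_injective (by rw [Functor.map_comp, hc, sqL.lift_fst])
    -- compare with the fibre over the big field
    let wL : WL.left := c₀.left (closedPoint sqv.K)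
    have hinc : Spec.map (CommRingCat.ofHom L.subtype) ≫ sq'.ptK.hom =
        str₂ := by
      show Spec.map _ ≫ Spec.map _ ≫ sV = _
      rw [← wtop, ← Spec.map_comp_assoc, ← CommRingCat.ofHom_comp, hδL]
      exact wδ
    let incl : Over.mk str₂ ⟶ sq'.ptK :=
      sm L.subtype hinc
    have hincl : (yon S).map incl ≫ sL = s₂ := by
      have e₁ : incl ≫ sm δL wtop = sm δ₀ wδ := Over.OverMorphism.ext (by
        show Spec.map _ ≫ Spec.map _ = Spec.map _
        rw [← Spec.map_comp, ← CommRingCat.ofHom_comp, hδL])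
      refine sqP.hom_ext ?_ ?_
      · rw [Category.assoc, hsL₁, hs₁, ← e₁, Functor.map_comp_assoc]
      · rw [Category.assoc, hsL₂, hs₂, ← e₁]
        simp only [← Functor.map_comp]
        congr 1
        rw [Category.assoc]
        congr 1
        exact sm_ext _ _ _ _ hgW
    obtain ⟨c, hc₁, hc₂⟩ : ∃ c : W ⟶ WL, c ≫ aL = a ∧ c ≫ bL = b ≫ incl := by
      obtain ⟨c, hc⟩ := (yon S).map_surjective (sqL.lift ((yon S).map a) ((yon S).map (b ≫ incl))
        (by rw [sqW.w, Functor.map_comp_assoc, hincl]))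
      exact ⟨c, (yon S).map_injective (by rw [Functor.map_comp, hc, sqL.lift_fst]),
        (yon S).map_injective (by rw [Functor.map_comp, hc, sqL.lift_snd])⟩
    have sqc : IsPullback ((yon S).map c) ((yon S).map b) ((yon S).map bL) ((yon S).map incl) := by
      refine IsPullback.of_right ?_ (by rw [← Functor.map_comp, ← Functor.map_comp, hc₂]) sqL
      rw [← Functor.map_comp, hc₁, hincl]
      exact sqW
    have : Surjective c.left := by
      have : Surjective incl.left := ⟨fun x => ⟨closedPoint K₂,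
        (Subsingleton.elim (α := PrimeSpectrum L) _ _)⟩⟩
      exact MorphismProperty.of_isPullback (P := @Surjective)
        (isPullback_left (isPullback_of_yon_map sqc)).flip this
    obtain ⟨w, hw⟩ := c.left.surjective wL
    obtain ⟨kL, _, strL, κL, -, huL⟩ := exists_field_point WL wL
    obtain ⟨θ₁, hθ₁⟩ := huL c₀.left rfl
    obtain ⟨θ₂, hθ₂⟩ := huL ((κW w).left ≫ c.left)
      (by rw [Scheme.Hom.comp_apply, hκW, hw])
    obtain ⟨γL, wγL, hγL⟩ := exists_sm (κL ≫ aL)
    obtain ⟨ψL, wψL, hψL⟩ := exists_sm (κL ≫ bL)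
    have eγ : κL.left ≫ aL.left = Spec.map (CommRingCat.ofHom γL) :=
      congrArg (fun x => x.left) hγL
    have eψ : κL.left ≫ bL.left = Spec.map (CommRingCat.ofHom ψL) :=
      congrArg (fun x => x.left) hψL
    have h₁γ : θ₁.comp γL = (algebraMap sqv.A sqv.K).comp γ₀ := by
      suffices h : CommRingCat.ofHom _ = CommRingCat.ofHom _ from congrArg CommRingCat.Hom.hom h
      apply Spec.map_injective
      rw [CommRingCat.ofHom_comp, CommRingCat.ofHom_comp, Spec.map_comp, Spec.map_comp,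
        ← eγ, ← Category.assoc, hθ₁]
      exact congrArg (fun x => x.left) hc₀₁
    have h₁ψ : θ₁.comp ψL = ψ₀.comp e'.ψ := by
      suffices h : CommRingCat.ofHom _ = CommRingCat.ofHom _ from congrArg CommRingCat.Hom.hom h
      apply Spec.map_injective
      rw [CommRingCat.ofHom_comp, CommRingCat.ofHom_comp, Spec.map_comp, Spec.map_comp,
        ← eψ, ← Category.assoc, hθ₁]
      exact congrArg (fun x => x.left) hc₀₂
    have h₂γ : θ₂.comp γL = γ w := by
      suffices h : CommRingCat.ofHom _ = CommRingCat.ofHom _ from congrArg CommRingCat.Hom.hom h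
      apply Spec.map_injective
      rw [CommRingCat.ofHom_comp, Spec.map_comp, ← eγ, ← Category.assoc, hθ₂,
        Category.assoc]
      exact (congrArg ((κW w).left ≫ ·) (congrArg (fun x => x.left) hc₁)).trans
        (congrArg (fun x => x.left) (hγ w))
    have h₂ψ : θ₂.comp ψL = (ψ w).comp L.subtype := by
      suffices h : CommRingCat.ofHom _ = CommRingCat.ofHom _ from congrArg CommRingCat.Hom.hom h
      apply Spec.map_injective
      rw [CommRingCat.ofHom_comp, CommRingCat.ofHom_comp, Spec.map_comp, Spec.map_comp,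
        ← eψ, ← Category.assoc, hθ₂, Category.assoc]
      refine (congrArg ((κW w).left ≫ ·) (congrArg (fun x => x.left) hc₂)).trans ?_
      show (κW w).left ≫ b.left ≫ _ = _
      rw [← Category.assoc]
      exact congrArg (fun x => x ≫ Spec.map (CommRingCat.ofHom L.subtype))
        (congrArg (fun x => x.left) (hψw w))
    obtain ⟨V, φV, hφVl, hφV, hγVmem⟩ := exists_valuation_transport (φ₀.comp e'.φ) γ₀ θ₁ θ₂
      (ψL.comp V₁.subtype) γL (by
        rw [← RingHom.comp_assoc, h₁ψ, RingHom.comp_assoc,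
          show e'.ψ.comp V₁.subtype = (algebraMap e'.A' e'.K').comp e'.φ from e'.comm.symm,
          ← RingHom.comp_assoc, hψ₀, RingHom.comp_assoc]) h₁γ
    obtain ⟨r, hr'⟩ := hno w V φV hφVl (by rw [hφV, ← RingHom.comp_assoc, h₂ψ])
    exact hr' (by rw [← h₂γ]; exact hγVmem r)

end Groth.Agent.Lib.AlgSpVal
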