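import Groth.Agent.Lib.AlgSpVal.ChartLift
import Groth.Agent.Lib.AlgSpMor.LocP
import Mathlib.AlgebraicGeometry.Morphisms.UniversallyOpen

/-!
# Valuation rings lift along flat morphisms
-/

set_option autoImplicit false
set_option linter.style.haveILetI false

universe u

open CategoryTheory CategoryTheory.Limits AlgebraicGeometry IsLocalRing
open AlgSp Groth.Agent.Lib.AlgSpace Groth.Agent.Lib.AlgSpMor

namespace Groth.Agent.Lib.AlgSpVal

variable {S : Scheme.{u}}

/-- Maps from valuation rings lift along flat morphisms hitting the closed point. -/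
theorem exists_lift_of_flat {F G : Sp S} (hF : IsAlgSpace F) (hG : IsAlgSpace G) {f : F ⟶ G}
    (hf : LocP @Flat f) (A : Type u) [CommRing A] [IsDomain A] [ValuationRing A]
    (str : Spec (.of A) ⟶ S) (b : (yon S).obj (Over.mk str) ⟶ G)
    (hb : Points.ofPt b (closedPoint A) ∈ Set.range (Points.map f)) :
    ∃ (A' : Type u) (_ : CommRing A') (_ : IsDomain A') (_ : ValuationRing A') (φ : A →+* A'),
      Function.Injective φ ∧ IsLocalHom φ ∧
      ∃ l : (yon S).obj (Over.mk (Spec.map (CommRingCat.ofHom φ) ≫ str)) ⟶ F,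
        l ≫ f = (yon S).map (Over.homMk (Spec.map (CommRingCat.ofHom φ)) rfl :
          Over.mk (Spec.map (CommRingCat.ofHom φ) ≫ str) ⟶ Over.mk str) ≫ b := by
  obtain ⟨x, hx⟩ := hb
  have sqP := IsPullback.of_hasPullback f b
  have hP : IsAlgSpace (pullback f b) :=
    isAlgSpace_of_isPullback sqP hG.diag hF (IsAlgSpace.yon_obj _)
  obtain ⟨p, -, hp⟩ := exists_of_isPullback sqP x
    (Points.ofPt (𝟙 ((yon S).obj (Over.mk str))) (closedPoint A))
    (by rw [hx, Points.map_ofPt, Category.id_comp])
  obtain ⟨U, r, hr, hrs⟩ := hP.atlas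
  obtain ⟨z, rfl⟩ := surjective_ofPt hrs p
  obtain ⟨k, hk⟩ := (yon S).map_surjective (r ≫ pullback.snd f b)
  have hflat : Flat k.left :=
    LocP.locP_of_isPullback (P := @Flat) SourceDescent.Scheme.flat hF hG (IsAlgSpace.yon_obj _)
      sqP hf r (𝟙 _) k hr (repWith_id _ _) (by rw [hk, Category.comp_id])
  have hkz : k.left z = closedPoint A := by
    refine (Points.schemeHomeo (Over.mk str)).injective (Eq.trans ?_ (hp.trans ?_))
    · rw [Points.map_ofPt, ← hk, ← Category.comp_id ((yon S).map k), ofPt_yon_map_comp]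
      rfl
    · rfl
  let η : (Over.mk str).left :=
    Spec.map (CommRingCat.ofHom (algebraMap A (FractionRing A))) (closedPoint (FractionRing A))
  obtain ⟨z₀, hz₀, hz₀η⟩ := (Flat.generalizingMap k.left) (a := z) (b := η)
    (by rw [hkz]; exact specializes_algebraMap _)
  obtain ⟨sqv, κ, β, hκ, hκu, hβ, hβy⟩ := exists_valSq (π := 𝟙 ((yon S).obj U))
    (q := (yon S).map (𝟙 U)) (m := 𝟙 U) (Category.comp_id _) z₀ z hz₀
  have hκβ : κ = sqv.j ≫ β := (yon S).map_injective (by
    have := sqv.comm
    rw [← hκ, ← hβ, Category.comp_id, (yon S).map_id, Category.comp_id] at this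
    rw [this, Functor.map_comp])
  obtain ⟨φ, wφ, hφ⟩ := exists_sm (β ≫ k)
  have hloc : IsLocalHom φ := (isLocalHom_iff_comap_closedPoint φ).2 (by
    refine (congrArg (fun x => x.left (closedPoint sqv.A)) hφ).symm.trans ?_
    show k.left (β.left (closedPoint sqv.A)) = _
    rw [hβy, hkz])
  have hinj : Function.Injective φ := by
    refine (injective_iff_map_eq_zero _).2 fun a ha => ?_
    have hρ : Spec.map (CommRingCat.ofHom ((algebraMap sqv.A sqv.K).comp φ)) (closedPoint sqv.K) = η := by
      rw [← hz₀η, ← hκu (closedPoint sqv.K), hκβ]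
      exact ((congrArg (fun x => x.left (sqv.j.left (closedPoint sqv.K))) hφ)).symm
    have h0 : a ∈ η.asIdeal := by
      rw [← hρ]
      show ((algebraMap sqv.A sqv.K).comp φ) a ∈ (closedPoint sqv.K).asIdeal
      rw [RingHom.comp_apply, ha, map_zero]
      exact zero_mem _
    change algebraMap A (FractionRing A) a ∈ maximalIdeal (FractionRing A) at h0
    rw [maximalIdeal_eq_bot, Ideal.mem_bot] at h0
    exact IsFractionRing.injective A (FractionRing A) (h0.trans (map_zero _).symm)
  let β' : Over.mk (Spec.map (CommRingCat.ofHom φ) ≫ str) ⟶ U := Over.homMk β.left (by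
    refine (Over.w β).trans ?_
    exact wφ.symm)
  refine ⟨sqv.A, inferInstance, inferInstance, inferInstance, φ, hinj, hloc,
    (yon S).map β' ≫ r ≫ pullback.fst f b, ?_⟩
  rw [Category.assoc, Category.assoc, sqP.w, ← Category.assoc r, ← hk, ← Functor.map_comp_assoc]
  congr 2
  refine Over.OverMorphism.ext ?_
  exact congrArg (fun x => x.left) hφ

end Groth.Agent.Lib.AlgSpVal
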