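import Mathlib.RingTheory.Valuation.LocalSubring
import Mathlib.RingTheory.LocalRing.ResidueField.Basic
import Mathlib.RingTheory.Localization.AtPrime.Basic
import Mathlib.RingTheory.Ideal.Operations
import Mathlib.Algebra.MvPolynomial.Eval
import Mathlib.RingTheory.MvPolynomial.Basic

/-!
# Valuation rings over a prime with prescribed residue extension
-/

set_option autoImplicit false

universe u

open IsLocalRing

namespace Groth.Agent.Lib.AlgSpVal

/-- For `μ : R → W` and a prime of `R` below which some point of `W` lies, there is a valuation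
ring of a field over `W` centred at the prime, whose residue field contains a given extension. -/
theorem exists_valuation_over {R W k : Type u} [CommRing R] [CommRing W] [Field k] (γ : R →+* k)
    (μ : R →+* W) (hμ : RingHom.ker μ ≤ RingHom.ker γ) :
    ∃ (L : Type u) (_ : Field L) (tL : W →+* L) (B : ValuationSubring L) (θ : R →+* B)
      (kmap : k →+* ResidueField B),
      B.subtype.comp θ = tL.comp μ ∧ (residue B).comp θ = kmap.comp γ := by
  haveI := RingHom.ker_isPrime γ
  have hdisj : Disjoint ((⊥ : Ideal W) : Set W)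
      ↑(Submonoid.map μ (RingHom.ker γ).primeCompl) := by
    rw [Set.disjoint_left]
    rintro x rfl ⟨r, hr, hr0⟩
    exact hr (hμ hr0)
  obtain ⟨Q, hQ, -, hQd⟩ := Ideal.exists_le_prime_disjoint (⊥ : Ideal W) _ hdisj
  have hQγ : ∀ r, μ r ∈ Q → γ r = 0 := fun r hr =>
    by_contra fun h => Set.disjoint_left.1 hQd hr ⟨r, h, rfl⟩
  let f₀ : MvPolynomial k R →+* MvPolynomial k (W ⧸ Q) :=
    MvPolynomial.map ((Ideal.Quotient.mk Q).comp μ)
  let L : Type u := FractionRing (MvPolynomial k (W ⧸ Q))
  let f : MvPolynomial k R →+* L := (algebraMap _ L).comp f₀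
  let g : MvPolynomial k R →+* k := MvPolynomial.eval₂Hom γ id
  have hg : Function.Surjective g := fun x => ⟨MvPolynomial.X x, by simp [g]⟩
  have hfg : ∀ x, f x = 0 → g x = 0 := fun x hx => by
    have h0 : f₀ x = 0 :=
      IsFractionRing.injective (MvPolynomial k (W ⧸ Q)) L (hx.trans (map_zero _).symm)
    have h1 : MvPolynomial.map γ x = 0 := MvPolynomial.ext _ _ fun d => by
      have := congrArg (MvPolynomial.coeff d) h0
      simp only [f₀, MvPolynomial.coeff_map, MvPolynomial.coeff_zero, RingHom.comp_apply,
        Ideal.Quotient.eq_zero_iff_mem] at this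
      simp [MvPolynomial.coeff_map, hQγ _ this]
    show MvPolynomial.eval₂ γ id x = 0
    rw [← MvPolynomial.eval_map, h1, map_zero]
  haveI : (RingHom.ker g).IsPrime := RingHom.ker_isPrime g
  let fl : Localization.AtPrime (RingHom.ker g) →+* L :=
    IsLocalization.lift (M := (RingHom.ker g).primeCompl) (g := f) fun y =>
      isUnit_iff_ne_zero.2 fun h => y.2 (hfg _ h)
  obtain ⟨B, hB, hBl⟩ := exists_factor_valuationRing fl
  let θ' : MvPolynomial k R →+* B :=
    (fl.codRestrict B.toSubring hB).comp (algebraMap _ (Localization.AtPrime (RingHom.ker g)))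
  have hker : RingHom.ker g ≤ RingHom.ker ((residue B).comp θ') := fun x hx => by
    refine (residue_eq_zero_iff _).2 fun hu => ?_
    exact ((IsLocalization.AtPrime.isUnit_to_map_iff (Localization.AtPrime (RingHom.ker g))
      (RingHom.ker g) x).1 (hBl.map_nonunit _ hu)) hx
  refine ⟨L, inferInstance, ((algebraMap (MvPolynomial k (W ⧸ Q)) L).comp MvPolynomial.C).comp (Ideal.Quotient.mk Q), B,
    θ'.comp MvPolynomial.C, g.liftOfSurjective hg ⟨(residue B).comp θ', hker⟩, ?_, ?_⟩
  · refine RingHom.ext fun r => ?_
    show fl (algebraMap _ _ (MvPolynomial.C r)) = _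
    rw [IsLocalization.lift_eq]
    simp [f, f₀, MvPolynomial.map_C]
  · refine RingHom.ext fun r => ?_
    have h := RingHom.congr_fun (g.liftOfSurjective_comp hg ⟨(residue B).comp θ', hker⟩) (MvPolynomial.C r)
    rw [RingHom.comp_apply] at h
    refine h.symm.trans ?_
    rw [RingHom.comp_apply, show g (MvPolynomial.C r) = γ r from MvPolynomial.eval₂_C γ id r]

end Groth.Agent.Lib.AlgSpVal
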