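import Groth.Agent.Lib.AlgSpVal.ChartLift
import Groth.Agent.Lib.AlgSpVal.Compose
import Groth.Agent.Lib.AlgSpVal.OverVal
import Groth.Agent.Lib.AlgSpMor.QC
import Groth.Agent.Lib.AlgSpace.Props
import Mathlib.RingTheory.Spectrum.Prime.Topology

/-!
# The existence criterion may be tested on a dense quasi-compact part
-/

set_option autoImplicit false
set_option linter.style.haveILetI false

universe u

open CategoryTheory CategoryTheory.Limits AlgebraicGeometry IsLocalRing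
open AlgSp Groth.Agent.Lib.AlgSpace Groth.Agent.Lib.AlgSpMor

namespace Groth.Agent.Lib.AlgSpVal

variable {S : Scheme.{u}}

theorem sm_comp {R T U : Type u} [CommRing R] [CommRing T] [CommRing U] {sR : Spec (.of R) ⟶ S}
    {sT : Spec (.of T) ⟶ S} {sU : Spec (.of U) ⟶ S} {g : R →+* T} {h : T →+* U}
    (w : Spec.map (CommRingCat.ofHom g) ≫ sR = sT) (w' : Spec.map (CommRingCat.ofHom h) ≫ sT = sU) :
    sm h w' ≫ sm g w = sm (h.comp g) (sm_w w w') :=
  Over.OverMorphism.ext (by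
    show Spec.map _ ≫ Spec.map _ = Spec.map _
    rw [← Spec.map_comp, ← CommRingCat.ofHom_comp])

theorem sm_injective {R T : Type u} [CommRing R] [CommRing T] {sR : Spec (.of R) ⟶ S}
    {sT : Spec (.of T) ⟶ S} {g g' : R →+* T} {w : Spec.map (CommRingCat.ofHom g) ≫ sR = sT}
    {w' : Spec.map (CommRingCat.ofHom g') ≫ sR = sT} (h : sm g w = sm g' w') : g = g' :=
  congrArg CommRingCat.Hom.hom (Spec.map_injective (congrArg (fun k => k.left) h))

theorem comp_eq_of_map_eq {R T : Type u} [CommRing R] [CommRing T] {sR : Spec (.of R) ⟶ S}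
    {sT : Spec (.of T) ⟶ S} {g g' : R →+* T} {w : Spec.map (CommRingCat.ofHom g) ≫ sR = sT}
    {w' : Spec.map (CommRingCat.ofHom g') ≫ sR = sT}
    (h : (yon S).map (sm g w) = (yon S).map (sm g' w')) : g = g' :=
  sm_injective ((yon S).map_injective h)

/-- If the criterion holds for squares through a dense quasi-compact part then the existence
criterion holds. -/
theorem existVC_of_dense {E F G : Sp S} (hE : IsAlgSpace E) (hF : IsAlgSpace F) (hG : IsAlgSpace G)
    {h : E ⟶ F} {f : F ⟶ G} (hh : IsQuasiCompactMor h) (hd : DenseRange (Points.map h))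
    (hv : ∀ sq : ValSq f, (∃ t, t ≫ h = sq.top) → sq.HasUniq ∧ sq.HasLiftExt) : ExistVC f := by
  intro sq
  obtain ⟨R₀, str₀, q₀, e, g₀, w₀, hq₀, hbot⟩ := exists_chart_lift hG sq
  let ψO : e.ptK' ⟶ sq.ptK := sm e.ψ (by
    rw [← Category.assoc, ← Category.assoc, ← Spec.map_comp, ← Spec.map_comp,
      ← CommRingCat.ofHom_comp, ← CommRingCat.ofHom_comp, e.comm])
  let jO : e.ptK' ⟶ e.ptA' := sm (algebraMap e.A' e.K') rfl
  have sqP := IsPullback.of_hasPullback f q₀
  have hP : IsAlgSpace (pullback f q₀) :=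
    isAlgSpace_of_isPullback sqP hG.diag hF (IsAlgSpace.yon_obj _)
  obtain ⟨s₀, hs₁, hs₂⟩ : ∃ s, s ≫ pullback.fst f q₀ = (yon S).map ψO ≫ sq.top ∧
      s ≫ pullback.snd f q₀ = (yon S).map jO ≫ (yon S).map (sm g₀ w₀) := by
    refine ⟨sqP.lift _ _ ?_, sqP.lift_fst _ _ _, sqP.lift_snd _ _ _⟩
    rw [Category.assoc, sq.comm, Category.assoc, hbot, ← Functor.map_comp_assoc,
      ← Functor.map_comp_assoc]
    congr 2
    exact sm_ext (sR := sq.str) _ _ _ _ e.comm.symm
  -- a chart with a point over the top arrow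
  obtain ⟨U, U'', q, a, e'', hU, hq, sqU, z, -⟩ := exists_affine_chart hP s₀ (closedPoint e.K')
  obtain ⟨R, strR, ⟨iR⟩⟩ := exists_spec_iso U
  haveI : IsIso iR.hom.left := inferInstanceAs (IsIso ((Over.forget S).map iR.hom))
  let qR := (yon S).map iR.hom ≫ q
  have hqR : RepWith @Etale qR := repWith_yon_map_comp (P := @Etale) inferInstance hq
  let qX := qR ≫ pullback.fst f q₀
  have hqX : RepWith @Etale qX := repWith_comp hqR (repWith_baseChange sqP.flip hq₀)
  let k : Type u := U''.left.residueField z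
  let κ₀ : Over.mk (U''.left.fromSpecResidueField z ≫ U''.hom) ⟶ U'' :=
    Over.homMk (U''.left.fromSpecResidueField z) rfl
  obtain ⟨γ, wγ, hγ⟩ := exists_sm (R := R) (T := k) (κ₀ ≫ a ≫ iR.inv)
  obtain ⟨ψk, wk, hψk⟩ := exists_sm (R := e.K') (T := k) (κ₀ ≫ e'')
  have hγs : (yon S).map (sm γ wγ) ≫ qR = (yon S).map (sm ψk wk) ≫ s₀ := by
    refine (congrArg (fun t => (yon S).map t ≫ qR) hγ.symm).trans
      (Eq.trans ?_ (congrArg (fun t => (yon S).map t ≫ s₀) hψk))
    show (yon S).map (κ₀ ≫ a ≫ iR.inv) ≫ (yon S).map iR.hom ≫ q = (yon S).map (κ₀ ≫ e'') ≫ s₀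
    simp only [Functor.map_comp, Category.assoc]
    rw [Iso.map_inv_hom_id_assoc, sqU.w]
  obtain ⟨mO, hmO⟩ := (yon S).map_surjective (qR ≫ pullback.snd f q₀)
  obtain ⟨m, wm, hm⟩ := exists_sm mO
  rw [hm] at hmO
  have hγm : γ.comp m = ψk.comp ((algebraMap e.A' e.K').comp g₀) := by
    have e₁ : (yon S).map (sm γ wγ ≫ sm m wm) =
        (yon S).map (sm ψk wk ≫ jO ≫ sm g₀ w₀) := by
      simp only [Functor.map_comp]
      rw [hmO, ← Category.assoc, hγs, Category.assoc, hs₂]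
    have e₂ : (jO ≫ sm g₀ w₀) = sm ((algebraMap e.A' e.K').comp g₀) (sm_w w₀ rfl) := sm_comp _ _
    rw [e₂] at e₁
    exact comp_eq_of_map_eq ((congrArg _ (sm_comp wm wγ)).symm.trans
      (e₁.trans (congrArg _ (sm_comp _ wk))))
  -- the part coming from the dense set
  have sqW := IsPullback.of_hasPullback h qX
  have hW : IsAlgSpace (pullback h qX) :=
    isAlgSpace_of_isPullback sqW hF.diag hE (IsAlgSpace.yon_obj _)
  haveI : CompactSpace ↥(Over.mk strR).left := inferInstanceAs (CompactSpace ↥(Spec R))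
  haveI := QC.compactSpace_of_isQuasiCompactMor hh sqW
  obtain ⟨UW, r, hUW, -, hr⟩ := QC.exists_affine_atlas hW
  obtain ⟨RW, strW, ⟨iW⟩⟩ := exists_spec_iso UW
  let rR := (yon S).map iW.hom ≫ r
  obtain ⟨μO, hμO⟩ := (yon S).map_surjective (rR ≫ pullback.snd h qX)
  obtain ⟨μ, wμ, hμ⟩ := exists_sm μO
  rw [hμ] at hμO
  have hdense : DenseRange (PrimeSpectrum.comap μ) := by
    have h₁ : Dense (Points.ofPt qX ⁻¹' Set.range (Points.map h)) :=
      Dense.preimage hd (isOpenMap_ofPt hqX)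
    refine h₁.mono ?_
    rintro v ⟨x, hx⟩
    obtain ⟨y, -, hy⟩ := exists_of_isPullback sqW x (Points.ofPt (𝟙 _) v) (by
      rw [hx, Points.map_ofPt, Category.id_comp])
    obtain ⟨t, rfl⟩ := surjective_ofPt hr y
    refine ⟨iW.inv.left t, (Points.schemeHomeo (Over.mk strR)).injective (Eq.trans ?_ hy)⟩
    rw [Points.map_ofPt, show r = (yon S).map iW.inv ≫ rR by
      rw [← Functor.map_comp_assoc, iW.inv_hom_id, (yon S).map_id, Category.id_comp],
      Category.assoc, ofPt_yon_map_comp, ← hμO, ← Category.comp_id ((yon S).map (sm μ wμ)),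
      ofPt_yon_map_comp]
    rfl
  obtain ⟨L, hL, tL, B, θ, kmap, hθ, hkmap⟩ := exists_valuation_over γ μ fun x hx => by
    obtain ⟨n, hn⟩ := (PrimeSpectrum.denseRange_comap_iff_ker_le_nilRadical μ).1 hdense hx
    exact eq_zero_of_pow_eq_zero (n := n) (by rw [← map_pow, hn, map_zero])
  -- the composed valuation ring
  obtain ⟨A₂, hA₂, hA₂l⟩ :=
    exists_factor_valuationRing ((kmap.comp ψk).comp (algebraMap e.A' e.K'))
  let gA : e.A' →+* A₂ :=
    ((kmap.comp ψk).comp (algebraMap e.A' e.K')).codRestrict A₂.toSubring hA₂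
  have hres : ∀ x, residue B (θ (m x)) = (gA (g₀ x) : ResidueField B) := fun x =>
    (RingHom.congr_fun hkmap (m x)).trans (congrArg kmap (RingHom.congr_fun hγm x))
  let gC : R₀ →+* compVal B A₂ := (B.subtype.comp (θ.comp m)).codRestrict (compVal B A₂).toSubring
    fun x => (mem_compVal B A₂).2 ⟨(θ (m x)).2, by
      have := hres x
      exact this ▸ (gA (g₀ x)).2⟩
  have hgC : (algebraMap (compVal B A₂) L).comp gC = tL.comp (μ.comp m) := by
    rw [← RingHom.comp_assoc, ← hθ]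
    rfl
  let sC : Spec (CommRingCat.of (compVal B A₂)) ⟶ S := Spec.map (CommRingCat.ofHom gC) ≫ str₀
  have wtop : Spec.map (CommRingCat.ofHom tL) ≫ strW =
      Spec.map (CommRingCat.ofHom (algebraMap (compVal B A₂) L)) ≫ sC := by
    rw [← sm_w wm wμ, ← sm_w (rfl : _ ≫ str₀ = sC) rfl, ← sm_w (rfl : _ ≫ str₀ = _) rfl, hgC]
  let sq₂ : ValSq f :=
    { A := compVal B A₂, K := L, str := sC
      top := (yon S).map (sm tL wtop) ≫ rR ≫ pullback.fst h qX ≫ h
      bot := (yon S).map (sm gC rfl) ≫ q₀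
      comm := by
        have hr₂ : rR ≫ pullback.fst h qX ≫ h = (yon S).map (sm μ wμ) ≫ qX := by
          rw [pullback.condition, ← Category.assoc rR, ← hμO]
        rw [Category.assoc, hr₂]
        simp only [qX, Category.assoc]
        rw [pullback.condition, ← Category.assoc qR, ← hmO, ← Functor.map_comp_assoc,
          ← Functor.map_comp_assoc, ← Functor.map_comp_assoc]
        congr 2
        rw [Category.assoc]
        change sm tL wtop ≫ sm μ wμ ≫ sm m wm = sm (algebraMap (compVal B A₂) L) rfl ≫ sm gC rfl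
        rw [sm_comp wm wμ]
        exact sm_ext _ _ _ _ hgC.symm }
  obtain ⟨-, e₃, l, hl₁, hl₂⟩ := hv sq₂ ⟨(yon S).map (sm tL wtop) ≫ rR ≫ pullback.fst h qX, by
    show _ = (yon S).map (sm tL wtop) ≫ rR ≫ pullback.fst h qX ≫ h
    simp only [Category.assoc]⟩
  haveI : IsLocalHom e₃.φ := e₃.isLocalHom
  obtain ⟨B', φB, χ, A', ρ, α, hφBl, hφB, hχ, hρ, hα, hρφ, hχφ, hαl⟩ :=
    exists_split B A₂ e₃.φ e₃.ψ e₃.comm
  -- uniqueness on the bigger valuation ring
  let sB : Spec (CommRingCat.of B') ⟶ S := Spec.map (CommRingCat.ofHom (φB.comp (θ.comp m))) ≫ str₀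
  have hφC : χ.comp (e₃.φ.comp gC) = φB.comp (θ.comp m) := by
    rw [← RingHom.comp_assoc, hχφ, RingHom.comp_assoc]
    rfl
  have wψ : Spec.map (CommRingCat.ofHom e₃.ψ) ≫ sq₂.ptK.hom =
      Spec.map (CommRingCat.ofHom (algebraMap B' e₃.K')) ≫ sB := by
    show Spec.map _ ≫ Spec.map _ ≫ Spec.map _ ≫ str₀ = Spec.map _ ≫ Spec.map _ ≫ str₀
    rw [← Spec.map_comp_assoc, ← Spec.map_comp_assoc, ← Spec.map_comp_assoc,
      ← CommRingCat.ofHom_comp, ← CommRingCat.ofHom_comp, ← CommRingCat.ofHom_comp, ← hφC,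
      ← RingHom.comp_assoc, show (algebraMap B' e₃.K').comp χ = algebraMap e₃.A' e₃.K' from hχ,
      ← RingHom.comp_assoc, ← e₃.comm]
  have wχ : Spec.map (CommRingCat.ofHom χ) ≫ e₃.ptA'.hom = sB := by
    show Spec.map _ ≫ Spec.map _ ≫ Spec.map _ ≫ str₀ = Spec.map _ ≫ str₀
    rw [← Spec.map_comp_assoc, ← Spec.map_comp_assoc, ← CommRingCat.ofHom_comp,
      ← CommRingCat.ofHom_comp, RingHom.comp_assoc, hφC]
  let sq₃ : ValSq f :=
    { A := B', K := e₃.K', str := sB
      top := (yon S).map (sm e₃.ψ wψ) ≫ sq₂.top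
      bot := (yon S).map (sm (φB.comp (θ.comp m)) rfl) ≫ q₀
      comm := by
        rw [Category.assoc, sq₂.comm]
        show (yon S).map (sm e₃.ψ wψ) ≫ (yon S).map (sm (algebraMap (compVal B A₂) L) rfl) ≫
            (yon S).map (sm gC rfl) ≫ q₀ =
          (yon S).map (sm (algebraMap B' e₃.K') rfl) ≫
            (yon S).map (sm (φB.comp (θ.comp m)) rfl) ≫ q₀
        simp only [← Functor.map_comp_assoc]
        congr 2
        change sm e₃.ψ wψ ≫ sm (algebraMap (compVal B A₂) L) rfl ≫ sm gC rfl =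
          sm (algebraMap B' e₃.K') rfl ≫ sm (φB.comp (θ.comp m)) rfl
        rw [sm_comp rfl rfl]
        refine sm_ext _ _ _ _ ?_
        rw [← hφC]
        simp only [← RingHom.comp_assoc]
        rw [show (algebraMap B' e₃.K').comp χ = algebraMap e₃.A' e₃.K' from hχ, e₃.comm] }
  have wθ : Spec.map (CommRingCat.ofHom (φB.comp θ)) ≫ strR = sB := by
    rw [← wm, ← Spec.map_comp_assoc, ← CommRingCat.ofHom_comp]
  let l₁ : (yon S).obj sq₃.ptA ⟶ F := (yon S).map (sm χ wχ) ≫ l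
  let l₂ : (yon S).obj sq₃.ptA ⟶ F := (yon S).map (sm (φB.comp θ) wθ) ≫ qX
  have huniq : l₁ = l₂ := by
    refine (hv sq₃ ⟨(yon S).map (sm e₃.ψ wψ) ≫ (yon S).map (sm tL wtop) ≫ rR ≫ pullback.fst h qX,
      ?_⟩).1 l₁ l₂ ?_ ?_ ?_ ?_
    · show _ = (yon S).map (sm e₃.ψ wψ) ≫ (yon S).map (sm tL wtop) ≫ rR ≫ pullback.fst h qX ≫ h
      simp only [Category.assoc]
    · have hid : Spec.map (CommRingCat.ofHom (RingHom.id e₃.K')) ≫ e₃.ptK'.hom = sq₃.ptK.hom := by
        rw [CommRingCat.ofHom_id, Spec.map_id, Category.id_comp]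
        show Spec.map _ ≫ e₃.ptA'.hom = Spec.map _ ≫ sB
        rw [← wχ, ← Spec.map_comp_assoc, ← CommRingCat.ofHom_comp,
          show (algebraMap B' e₃.K').comp χ = algebraMap e₃.A' e₃.K' from hχ]
      let i₃ : sq₃.ptK ⟶ e₃.ptK' := sm (RingHom.id e₃.K') hid
      have hc : sq₃.j ≫ sm χ wχ = i₃ ≫ sm (algebraMap e₃.A' e₃.K') rfl := by
        refine Over.OverMorphism.ext ?_
        show Spec.map _ ≫ Spec.map _ = Spec.map _ ≫ Spec.map _
        rw [← Spec.map_comp, ← CommRingCat.ofHom_comp,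
          show (algebraMap B' e₃.K').comp χ = algebraMap e₃.A' e₃.K' from hχ, ← Spec.map_comp,
          ← CommRingCat.ofHom_comp, RingHom.id_comp]
      rw [← Functor.map_comp_assoc, hc, Functor.map_comp_assoc]
      refine (congrArg ((yon S).map i₃ ≫ ·) hl₁).trans ?_
      show _ = (yon S).map (sm e₃.ψ wψ) ≫ sq₂.top
      rw [← Functor.map_comp_assoc]
      congr 2
      refine Over.OverMorphism.ext ?_
      show Spec.map _ ≫ Spec.map _ = Spec.map _
      rw [← Spec.map_comp, ← CommRingCat.ofHom_comp, RingHom.id_comp]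
    · rw [Category.assoc, hl₂, ← Functor.map_comp_assoc,
        show sq₂.bot = (yon S).map (sm gC rfl) ≫ q₀ from rfl, ← Functor.map_comp_assoc]
      congr 2
      rw [Category.assoc]
      change sm χ wχ ≫ sm e₃.φ rfl ≫ sm gC rfl = sm (φB.comp (θ.comp m)) rfl
      rw [sm_comp rfl rfl, sm_comp]
      congr 1
    · show _ = (yon S).map (sm e₃.ψ wψ) ≫ (yon S).map (sm tL wtop) ≫ rR ≫ pullback.fst h qX ≫ h
      rw [pullback.condition, ← Category.assoc rR, ← hμO, ← Functor.map_comp_assoc,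
        ← Functor.map_comp_assoc, ← Functor.map_comp_assoc]
      congr 2
      rw [Category.assoc, sm_comp wμ wtop]
      refine sm_ext (sR := strR) _ _ _ _ ?_
      rw [← hθ, ← RingHom.comp_assoc, ← RingHom.comp_assoc]
      exact congrArg (RingHom.comp · θ) hφB
    · rw [Category.assoc, show qX = qR ≫ pullback.fst f q₀ from rfl, Category.assoc,
        pullback.condition, ← Category.assoc qR, ← hmO, ← Functor.map_comp_assoc]
      congr 2
      change sm (φB.comp θ) wθ ≫ sm m wm = sm (φB.comp (θ.comp m)) rfl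
      rw [sm_comp]
      congr 1
  -- the lift on the quotient
  haveI : IsLocalHom φB := hφBl
  haveI : IsLocalHom α := hαl
  haveI : IsLocalHom gA := hA₂l
  haveI : IsLocalHom e.φ := e.isLocalHom
  let ψ₄ : e.K' →+* ResidueField B' := ((ResidueField.map φB).comp kmap).comp ψk
  have hbot₄ : ρ.comp (e₃.φ.comp gC) = ((α.comp gA).comp g₀) := by
    rw [← RingHom.comp_assoc, hρφ, RingHom.comp_assoc, RingHom.comp_assoc]
    refine congrArg α.comp (RingHom.ext fun x => Subtype.ext ?_)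
    rw [RingHom.comp_apply, coe_compRes]
    exact hres x
  have hj₄ : A'.subtype.comp (α.comp gA) = ψ₄.comp (algebraMap e.A' e.K') := by
    rw [← RingHom.comp_assoc, hα, RingHom.comp_assoc]
    rfl
  let e₄ : sq.DomExt :=
    { A' := A', K' := ResidueField B', φ := (α.comp gA).comp e.φ, ψ := ψ₄.comp e.ψ
      comm := by
        show A'.subtype.comp ((α.comp gA).comp e.φ) = _
        rw [← RingHom.comp_assoc, hj₄, RingHom.comp_assoc, e.comm, RingHom.comp_assoc]
        rfl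
      isLocalHom := inferInstance }
  have wρ : Spec.map (CommRingCat.ofHom ρ) ≫ e₃.ptA'.hom = e₄.ptA'.hom := by
    show Spec.map _ ≫ Spec.map _ ≫ Spec.map _ ≫ str₀ = Spec.map _ ≫ sq.str
    rw [← Spec.map_comp_assoc, ← Spec.map_comp_assoc, ← CommRingCat.ofHom_comp,
      ← CommRingCat.ofHom_comp, RingHom.comp_assoc, hbot₄, CommRingCat.ofHom_comp, Spec.map_comp, Category.assoc, w₀,
      ← Spec.map_comp_assoc, ← CommRingCat.ofHom_comp]
  have wα : Spec.map (CommRingCat.ofHom (α.comp gA)) ≫ e.ptA'.hom = e₄.ptA'.hom := by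
    show Spec.map _ ≫ Spec.map _ ≫ sq.str = Spec.map _ ≫ sq.str
    rw [← Spec.map_comp_assoc, ← CommRingCat.ofHom_comp]
  have wψ₄ : Spec.map (CommRingCat.ofHom ψ₄) ≫ e.ptK'.hom = e₄.ptK'.hom := by
    show Spec.map _ ≫ Spec.map _ ≫ Spec.map _ ≫ sq.str = Spec.map _ ≫ Spec.map _ ≫ sq.str
    simp only [← Spec.map_comp_assoc, ← CommRingCat.ofHom_comp]
    rw [← RingHom.comp_assoc, ← hj₄]
    rfl
  have wres : Spec.map (CommRingCat.ofHom (residue B')) ≫ sB = e₄.ptK'.hom := by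
    rw [← wχ, ← Spec.map_comp_assoc, ← CommRingCat.ofHom_comp, ← hρ]
    exact sm_w wρ rfl
  refine ⟨e₄, (yon S).map (sm ρ wρ : e₄.ptA' ⟶ e₃.ptA') ≫ l, ?_, ?_⟩
  · have hres' : (sm (algebraMap A' (ResidueField B')) rfl : e₄.ptK' ⟶ e₄.ptA') ≫
        (sm ρ wρ : e₄.ptA' ⟶ e₃.ptA') = (sm (residue B') wres : e₄.ptK' ⟶ sq₃.ptA) ≫ sm χ wχ :=
      sm_ext _ _ _ _ hρ
    rw [← Functor.map_comp_assoc]
    refine (congrArg (fun t => (yon S).map t ≫ l) hres').trans ?_
    rw [Functor.map_comp_assoc]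
    refine (congrArg ((yon S).map (sm (residue B') wres : e₄.ptK' ⟶ sq₃.ptA) ≫ ·) huniq).trans ?_
    have hk : (sm (residue B') wres : e₄.ptK' ⟶ sq₃.ptA) ≫ sm (φB.comp θ) wθ =
        (sm ((ResidueField.map φB).comp kmap) (by
          rw [← wk]
          refine Eq.trans ?_ wψ₄
          rw [show ψ₄ = ((ResidueField.map φB).comp kmap).comp ψk from rfl]
          show Spec.map _ ≫ Spec.map _ ≫ Spec.map _ ≫ Spec.map _ ≫ sq.str =
            Spec.map _ ≫ Spec.map _ ≫ Spec.map _ ≫ sq.str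
          simp only [CommRingCat.ofHom_comp, Spec.map_comp, Category.assoc]
          rfl) : e₄.ptK' ⟶ Over.mk _) ≫ sm γ wγ := by
      refine sm_ext _ _ _ _ ?_
      rw [← RingHom.comp_assoc, ← ResidueField.map_comp_residue, RingHom.comp_assoc, hkmap,
        ← RingHom.comp_assoc]
    show (yon S).map _ ≫ (yon S).map _ ≫ qR ≫ pullback.fst f q₀ = _
    rw [← Functor.map_comp_assoc, hk, Functor.map_comp_assoc, reassoc_of% hγs, hs₁,
      ← Functor.map_comp_assoc, ← Functor.map_comp_assoc]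
    congr 2
    refine Over.OverMorphism.ext ?_
    show (Spec.map _ ≫ Spec.map _) ≫ Spec.map _ = Spec.map _
    simp only [← Spec.map_comp, ← CommRingCat.ofHom_comp]
  · rw [Category.assoc, hl₂, show sq₂.bot = (yon S).map (sm gC rfl) ≫ q₀ from rfl,
      ← Functor.map_comp_assoc, ← Functor.map_comp_assoc]
    have hb : (sm ρ wρ : e₄.ptA' ⟶ e₃.ptA') ≫ sm e₃.φ rfl ≫ sm gC rfl =
        (sm (α.comp gA) wα : e₄.ptA' ⟶ e.ptA') ≫ sm g₀ w₀ := by
      rw [sm_comp rfl rfl]
      exact sm_ext _ _ _ _ hbot₄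
    rw [Category.assoc]
    refine Eq.trans (congrArg ((yon S).map · ≫ q₀) hb) ?_
    rw [Functor.map_comp_assoc, hbot, ← Functor.map_comp_assoc, sm_comp]
    rfl

end Groth.Agent.Lib.AlgSpVal
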